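/-
The field with `q ^ 2` elements over the field with `q` elements: trace, norm and spanning facts used
by the presentation of `SU₄(q)`.
-/
import Cfsg.Agent.Lib.Forms.Herm

set_option autoImplicit false
set_option linter.unusedSectionVars false

namespace Cfsg.Agent.SU4Presentation

/-- In a finite field every element is a sum of two squares. -/
theorem exists_sq_add_sq {E : Type*} [Field E] [Fintype E] (x : E) : ∃ b c : E, x = b ^ 2 + c ^ 2 := by
  by_cases h2 : ringChar E = 2
  · obtain ⟨b, rfl⟩ := FiniteField.isSquare_of_char_two h2 x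
    exact ⟨b, 0, by ring⟩
  · obtain ⟨b, c, hbc⟩ := FiniteField.exists_root_sum_quadratic (R := E)
      (f := Polynomial.X ^ 2) (g := Polynomial.X ^ 2 - Polynomial.C x) (Polynomial.degree_X_pow 2)
      (Polynomial.degree_X_pow_sub_C (by decide) _) (FiniteField.odd_card_of_char_ne_two h2)
    simp only [Polynomial.eval_pow, Polynomial.eval_X, Polynomial.eval_sub, Polynomial.eval_C] at hbc
    exact ⟨b, c, by linear_combination -hbc⟩

variable {F : Type*} [Field F] [Fintype F] {q : ℕ} (hF : Fintype.card F = q ^ 2)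

local notation "σ" => Forms.qEnd hF

/-- The subfield with `q` elements. -/
def Fix : Subfield F := RingHom.eqLocusField σ (RingHom.id F)

theorem mem_Fix (x : F) : x ∈ Fix hF ↔ σ x = x := Iff.rfl

noncomputable instance : Fintype (Fix hF) := Fintype.ofFinite _

theorem σσ (x : F) : σ (σ x) = x := Forms.qEnd_qEnd hF x

theorem σ_eq (x : Fix hF) : σ (x : F) = x := x.2

/-- The trace. -/
def tr : F →+ Fix hF where
  toFun x := ⟨x + σ x, by rw [mem_Fix, map_add, σσ, add_comm]⟩
  map_zero' := Subtype.ext (by simp)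
  map_add' x y := Subtype.ext (by simp only [map_add, Subfield.coe_add]; ring)

/-- The norm. -/
def nm : F →* Fix hF where
  toFun x := ⟨x * σ x, by rw [mem_Fix, map_mul, σσ, mul_comm]⟩
  map_one' := Subtype.ext (by simp)
  map_mul' x y := Subtype.ext (by simp only [map_mul, Subfield.coe_mul]; ring)

theorem tr_val (x : F) : (tr hF x : F) = x + σ x := rfl

theorem nm_val (x : F) : (nm hF x : F) = x * σ x := rfl

theorem tr_mul (r : Fix hF) (x : F) : tr hF ((r : F) * x) = r * tr hF x :=
  Subtype.ext (by simp only [tr_val, map_mul, σ_eq, Subfield.coe_mul]; ring)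

theorem tr_σ (x : F) : tr hF (σ x) = tr hF x := Subtype.ext (by simp only [tr_val, σσ, add_comm])

theorem nm_add (t t' : F) : nm hF (t + t') = nm hF t + tr hF (t * σ t') + nm hF t' :=
  Subtype.ext (by simp only [Subfield.coe_add, nm_val, tr_val, map_add, map_mul, σσ]; ring)

theorem nm_σ (x : F) : nm hF (σ x) = nm hF x := Subtype.ext (by simp only [nm_val, σσ, mul_comm])

theorem nm_fix (r : Fix hF) : nm hF (r : F) = r ^ 2 :=
  Subtype.ext (by rw [nm_val, σ_eq, sq, Subfield.coe_mul])

theorem nm_neg (x : F) : nm hF (-x) = nm hF x := Subtype.ext (by simp [nm_val])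

theorem nm_neg_one : nm hF (-1 : F) = 1 := by rw [nm_neg, map_one]

theorem nm_zero : nm hF (0 : F) = 0 := Subtype.ext (by simp [nm_val])

theorem nm_units (a : Fˣ) : nm hF (a : F) ≠ 0 := fun h => by
  have := congrArg Subtype.val h
  simp [nm_val] at this

include hF in
theorem q_pos : 0 < q := Nat.zero_lt_of_lt (Forms.one_lt_q hF)

theorem card_Fix : Fintype.card (Fix hF) = q := by
  classical
  have hq := Forms.one_lt_q hF
  have hq0 : q ≠ 0 := by omega
  let e : Fix hF ≃ Option (powMonoidHom (α := Fˣ) (q - 1)).ker :=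
    { toFun := fun x => if h : (x : F) = 0 then none else some ⟨Units.mk0 x h, by
          rw [MonoidHom.mem_ker, powMonoidHom_apply]
          refine Units.ext ?_
          show (x : F) ^ (q - 1) = 1
          refine mul_left_cancel₀ h ?_
          rw [← pow_succ', Nat.sub_add_cancel hq.le, mul_one]
          exact x.2⟩
      invFun := fun o => o.elim 0 fun u => ⟨(u.1 : F), by
          rw [mem_Fix, Forms.qEnd_apply, show (u.1 : F) ^ q = (u.1 : F) ^ (q - 1 + 1) from
            congrArg _ (Nat.sub_add_cancel hq.le).symm, pow_succ']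
          have := congrArg Units.val u.2
          simp only [powMonoidHom_apply, Units.val_pow_eq_pow_val, Units.val_one] at this
          rw [this, mul_one]⟩
      left_inv := fun x => by
        by_cases h : (x : F) = 0
        · simp only [dif_pos h, Option.elim_none]; exact Subtype.ext h.symm
        · simp only [dif_neg h, Option.elim_some]; rfl
      right_inv := fun o => by
        rcases o with _ | u
        · simp
        · simp [Units.ext_iff, Subtype.ext_iff] }
  rw [← Nat.card_eq_fintype_card, Nat.card_congr e, Finite.card_option,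
    Forms.card_units_pow_eq_one hF (d := q - 1) (dvd_mul_left _ _)]
  omega

theorem exists_nm (r : Fix hF) (hr : r ≠ 0) : ∃ a : Fˣ, nm hF (a : F) = r := by
  obtain ⟨x, hx, h⟩ := Forms.exists_norm_eq hF (c := (r : F)) (fun h => hr (Subtype.ext h)) r.2
  exact ⟨Units.mk0 x hx, Subtype.ext (by rw [nm_val, Forms.qEnd_apply, Units.val_mk0, ← pow_succ', h])⟩

/-- A field element outside the fixed field. -/
theorem exists_notMem : ∃ e : F, e ∉ Fix hF := by
  by_contra h
  push Not at h
  exact Forms.qEnd_ne_id hF (RingHom.ext h)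

/-- An element of trace one and a non-zero one of trace zero. -/
theorem exists_basis : ∃ u₀ u₁ : F, tr hF u₀ = 1 ∧ tr hF u₁ = 0 ∧ u₁ ≠ 0 := by
  obtain ⟨y, hy⟩ := exists_notMem hF
  have hu1 : tr hF (y - σ y) = 0 := Subtype.ext (by simp [tr_val, σσ]; ring)
  have hu1' : y - σ y ≠ 0 := sub_ne_zero.2 fun h => hy h.symm
  obtain ⟨z, hz⟩ : ∃ z, tr hF z ≠ 0 := by
    by_contra h
    push Not at h
    have h1 := congrArg Subtype.val (h 1)
    have h2 := congrArg Subtype.val (h y)
    simp only [tr_val, map_one, ZeroMemClass.coe_zero] at h1 h2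
    exact hy (show σ y = y by linear_combination h2 - y * h1)
  refine ⟨((tr hF z)⁻¹ : Fix hF) * z, y - σ y, ?_, hu1, hu1'⟩
  rw [tr_mul, inv_mul_cancel₀ hz]

/-- `1` and an element outside the fixed field form a basis. -/
theorem decomp {e : F} (he : e ∉ Fix hF) (x : F) : ∃ r s : Fix hF, x = r + s * e := by
  have hinj : Function.Injective fun p : Fix hF × Fix hF => (p.1 : F) + p.2 * e := by
    rintro ⟨r, s⟩ ⟨r', s'⟩ h
    simp only at h
    by_cases hs : s = s'
    · subst hs
      simpa using h
    · exfalso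
      refine he ?_
      have h0 : ((s - s' : Fix hF) : F) ≠ 0 := fun hh => hs (sub_eq_zero.1 (Subtype.ext hh))
      have : e = (((r' - r) / (s - s') : Fix hF) : F) := by
        rw [Subfield.coe_div, eq_div_iff h0]
        simp only [Subfield.coe_sub]
        linear_combination h
      rw [this]
      exact SetLike.coe_mem _
  have hcard : Fintype.card (Fix hF × Fix hF) = Fintype.card F := by
    rw [Fintype.card_prod, card_Fix, hF, sq]
  obtain ⟨⟨r, s⟩, h⟩ := ((Fintype.bijective_iff_injective_and_card _).2 ⟨hinj, hcard⟩).2 x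
  exact ⟨r, s, h.symm⟩

/-- An additive subgroup stable under the squares of the fixed field is stable under the field. -/
theorem mul_mem_of_sq {S : AddSubgroup F} (h : ∀ c : Fix hF, ∀ x ∈ S, (c : F) ^ 2 * x ∈ S)
    (r : Fix hF) {x : F} (hx : x ∈ S) : (r : F) * x ∈ S := by
  obtain ⟨b, c, rfl⟩ := exists_sq_add_sq r
  simp only [Subfield.coe_add, SubmonoidClass.coe_pow, add_mul]
  exact add_mem (h b x hx) (h c x hx)

/-- An additive subgroup stable under the norm of a generator contains the fixed field multiples. -/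
theorem mul_mem_of_gen {ω : Fˣ} (hω : ∀ c : Fˣ, c ∈ Subgroup.zpowers ω) {S : AddSubgroup F}
    (h : ∀ x ∈ S, (nm hF (ω : F) : F) * x ∈ S) (r : Fix hF) {x : F} (hx : x ∈ S) : (r : F) * x ∈ S := by
  rcases eq_or_ne r 0 with rfl | hr
  · simp
  obtain ⟨a, ha⟩ := exists_nm hF r hr
  obtain ⟨n, rfl⟩ := mem_powers_iff_mem_zpowers.2 (hω a)
  simp only [Units.val_pow_eq_pow_val, map_pow] at ha
  rw [← ha]
  clear ha
  induction n with
  | zero => simpa
  | succ n ih => simp only [SubmonoidClass.coe_pow] at ih ⊢; rw [pow_succ', mul_assoc]; exact h _ ih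

/-- The element `(ω ^ (q - 1)) ^ 2` lies outside the fixed field unless `q = 3`. -/
theorem sq_zeta_notMem {ω : Fˣ} (hω : ∀ c : Fˣ, c ∈ Subgroup.zpowers ω) (h3 : q ≠ 3) :
    ((ω ^ (q - 1)) ^ 2 : Fˣ).val ∉ Fix hF := by
  intro h
  have hq := Forms.one_lt_q hF
  rw [mem_Fix, Forms.qEnd_apply, ← Units.val_pow_eq_pow_val, ← Units.ext_iff] at h
  have h1 : (ω ^ (q - 1)) ^ (2 * (q - 1)) = 1 := by
    rw [pow_mul]
    refine mul_left_cancel (a := (ω ^ (q - 1)) ^ 2) ?_
    rw [← pow_succ', Nat.sub_add_cancel hq.le, h, mul_one]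
  rw [← pow_mul] at h1
  have hd := orderOf_dvd_of_pow_eq_one h1
  rw [orderOf_eq_card_of_forall_mem_zpowers hω, Forms.units_card hF, mul_comm (q + 1)] at hd
  have hd' := Nat.dvd_of_mul_dvd_mul_left (by omega) hd
  have h4 : q + 1 ∣ 4 := by
    have : q + 1 ∣ 2 * (q - 1) + 4 := by
      rw [show 2 * (q - 1) + 4 = 2 * (q + 1) by omega]; exact dvd_mul_left _ _
    exact (Nat.dvd_add_right hd').1 this
  have := Nat.le_of_dvd (by norm_num) h4
  rcases q with _ | _ | _ | _ | _ <;> omega

end Cfsg.Agent.SU4Presentation
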