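/-
The relators of the presentation of `SU₄(q)`: a copy `m` of `SL₂(q²)` at the short root and one
element `s` acting as the Weyl element of the long root.
-/
import Cfsg.Agent.Lib.SU4Presentation.Basic
import Cfsg.Agent.Lib.BoundedPres.SLModel

set_option autoImplicit false
set_option linter.unusedSectionVars false

namespace Cfsg.Agent.SU4Presentation

open Matrix SL2Presentation Cfsg.Agent.BoundedPres
open scoped MatrixGroups

variable {F : Type*} [Field F] [Fintype F] {q : ℕ} (hF : Fintype.card F = q ^ 2)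

local notation "σ" => Forms.qEnd hF

/-- Conjugation of units. -/
def σu : Fˣ →* Fˣ := Units.map ((σ : F →+* F) : F →* F)

theorem σu_val (a : Fˣ) : ((σu hF a : Fˣ) : F) = σ (a : F) := rfl

/-- The ratio of a unit and its conjugate. -/
def rU : Fˣ →* Fˣ where
  toFun a := a * (σu hF a)⁻¹
  map_one' := by simp
  map_mul' a b := by simp only [map_mul, mul_inv]; exact mul_mul_mul_comm _ _ _ _

theorem rU_val (a : Fˣ) : (rU hF a : F) = (a : F) / σ (a : F) := by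
  show ((a * (σu hF a)⁻¹ : Fˣ) : F) = _
  rw [Units.val_mul, Units.val_inv_eq_inv_val, σu_val, div_eq_mul_inv]

theorem σu_pow (a : Fˣ) : σu hF a = a ^ q := Units.ext (by rw [σu_val, Units.val_pow_eq_pow_val]; rfl)

section Raw

variable {X : Type*} [Group X] (m : SL(2, F) → X) (s : X)

/-- The short root element. -/
def ux (t : F) : X := m (uL t)

/-- The torus of the short root. -/
def dx (a : Fˣ) : X := m (dL a)

/-- The conjugate torus. -/
def dy (a : Fˣ) : X := s * dx m a * s⁻¹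

/-- The Weyl element of the short root. -/
def wx : X := m tL

/-- The other positive short root. -/
def cx (v : F) : X := s * ux m (-v) * s⁻¹

/-- The commutator of the two positive short roots. -/
def cm (t v : F) : X := ux m t * cx m s v * (ux m t)⁻¹ * (cx m s v)⁻¹

/-- The torus of the long root. -/
def lx (a : Fˣ) : X := (dx m a)⁻¹ * dy m s a

/-- The simple long root element. -/
def bx (u₀ : F) : X := (wx m)⁻¹ * cm m s 1 u₀ * wx m

/-- The relators. -/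
def su4Rels (ω : Fˣ) (k : ℕ) (u₀ u₁ : F) (three : Bool) : List X :=
  [dy m s ω * ux m 1 * (dy m s ω)⁻¹ * (ux m (rU hF ω : F))⁻¹,
    dy m s ω * dx m ω * (dx m ω * dy m s ω)⁻¹,
    dy m s ω * wx m * (dy m s ω)⁻¹ * (wx m * dx m (rU hF ω)⁻¹)⁻¹,
    dy m s (ω ^ (q - 1)) * (dx m (ω ^ (q - 1)))⁻¹,
    s * s * (lx m s (ω ^ k))⁻¹,
    cm m s 1 u₁,
    cm m s 1 u₀ * ux m 1 * (ux m 1 * cm m s 1 u₀)⁻¹,
    cm m s 1 u₀ * cx m s 1 * (cx m s 1 * cm m s 1 u₀)⁻¹,
    dx m ω * cm m s 1 u₀ * (dx m ω)⁻¹ * (cm m s 1 ((ω : F) * σ (ω : F) * u₀))⁻¹,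
    wx m * cx m s 1 * (wx m)⁻¹ * (cx m s (-1))⁻¹,
    bx m s u₀ * cm m s 1 u₀ * (cm m s 1 u₀ * bx m s u₀)⁻¹,
    ux m 1 * bx m s u₀ * (bx m s u₀ * cx m s 1 * cm m s 1 u₀ * ux m 1)⁻¹,
    (s * bx m s u₀) ^ 3,
    s * (wx m * s * (wx m)⁻¹) * (wx m * s * (wx m)⁻¹ * s)⁻¹] ++
  if three then
    [cm m s 1 u₀ * ux m (ω : F) * (ux m (ω : F) * cm m s 1 u₀)⁻¹,
      cm m s 1 u₀ * cx m s (ω : F) * (cx m s (ω : F) * cm m s 1 u₀)⁻¹,
      ux m (ω : F) * bx m s u₀ *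
        (bx m s u₀ * cx m s (ω : F) * cm m s 1 ((ω : F) * σ (ω : F) * u₀) * ux m (ω : F))⁻¹]
  else
    [lx m s ω * cm m s 1 u₀ * (cm m s 1 u₀ * lx m s ω)⁻¹,
      dx m (ω ^ (q - 1)) * cm m s 1 u₀ * (cm m s 1 u₀ * dx m (ω ^ (q - 1)))⁻¹]

theorem length_su4Rels (ω : Fˣ) (k : ℕ) (u₀ u₁ : F) (three : Bool) :
    (su4Rels hF m s ω k u₀ u₁ three).length = if three then 17 else 16 := by
  cases three <;> rfl

theorem map_su4Rels {Y : Type*} [Group Y] (f : X →* Y) (ω : Fˣ) (k : ℕ) (u₀ u₁ : F) (three : Bool) :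
    (su4Rels hF m s ω k u₀ u₁ three).map f = su4Rels hF (f ∘ m) (f s) ω k u₀ u₁ three := by
  cases three <;> simp [su4Rels, ux, dx, dy, wx, cx, cm, lx, bx]

end Raw

/-- The standing hypotheses on the parameters and the relators. -/
structure Hyp {Q : Type*} [Group Q] (m : SL(2, F) →* Q) (s : Q) where
  ω : Fˣ
  k : ℕ
  u₀ : F
  u₁ : F
  hω : ∀ c : Fˣ, c ∈ Subgroup.zpowers ω
  hk : nm hF ((ω ^ k : Fˣ) : F) = -1
  h₀ : tr hF u₀ = 1
  h₁ : tr hF u₁ = 0
  h₁' : u₁ ≠ 0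
  hG : ∀ x ∈ su4Rels hF m s ω k u₀ u₁ (decide (q = 3)), x = 1

namespace Hyp

variable {Q : Type*} [Group Q] {m : SL(2, F) →* Q} {s : Q} (H : Hyp hF m s)

theorem raw (i : ℕ) {a b : Q} (he : ((su4Rels hF m s H.ω H.k H.u₀ H.u₁ (decide (q = 3)))[i]?) =
    some (a * b⁻¹)) : a = b :=
  mul_inv_eq_one.1 (H.hG _ (List.mem_of_getElem? he))

end Hyp

end Cfsg.Agent.SU4Presentation
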