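/-
Consequences of the relators: the torus and its action on the short root groups.
-/
import Cfsg.Agent.Lib.SU4Presentation.Rels
import Cfsg.Agent.Lib.BoundedPres.Sp4Bound

set_option autoImplicit false
set_option linter.unusedSectionVars false

namespace Cfsg.Agent.SU4Presentation

open Matrix SL2Presentation Cfsg.Agent.BoundedPres
open scoped MatrixGroups

/-- A conjugation applied to a product. -/
theorem cj_mul {X : Type*} [Group X] (g a b : X) : g * (a * b) * g⁻¹ = g * a * g⁻¹ * (g * b * g⁻¹) := by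
  group

/-- A product of conjugations. -/
theorem cj_cj {X : Type*} [Group X] (g h a : X) : g * h * a * (g * h)⁻¹ = g * (h * a * h⁻¹) * g⁻¹ := by
  group

theorem cj_inv {X : Type*} [Group X] (g a : X) : g * a⁻¹ * g⁻¹ = (g * a * g⁻¹)⁻¹ := by group

variable {F : Type*} [Field F] [Fintype F] {q : ℕ} {hF : Fintype.card F = q ^ 2}

local notation "σ" => Forms.qEnd hF

namespace Hyp

variable {Q : Type*} [Group Q] {m : SL(2, F) →* Q} {s : Q} (H : Hyp hF m s)
include H

omit H in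
theorem ux_add (t t' : F) : ux m (t + t') = ux m t * ux m t' := by simp only [ux, uL_add, map_mul]

omit H in
theorem ux_zero : ux m (0 : F) = 1 := by simp only [ux, uL_zero, map_one]

omit H in
theorem ux_neg (t : F) : ux m (-t) = (ux m t)⁻¹ :=
  eq_inv_of_mul_eq_one_left (by rw [← ux_add, neg_add_cancel, ux_zero])

omit H in
theorem cx_add (v v' : F) : cx m s (v + v') = cx m s v * cx m s v' := by
  simp only [cx, neg_add, ux_add]; group

omit H in
theorem cx_zero : cx m s (0 : F) = 1 := by simp [cx, ux_zero]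

omit H in
theorem cx_neg (v : F) : cx m s (-v) = (cx m s v)⁻¹ :=
  eq_inv_of_mul_eq_one_left (by rw [← cx_add, neg_add_cancel, cx_zero])

omit H in
theorem dx_mul (a b : Fˣ) : dx m (a * b) = dx m a * dx m b := by simp only [dx, map_mul]

omit H in
theorem dx_one : dx m (1 : Fˣ) = 1 := by simp [dx]

omit H in
theorem dx_inv (a : Fˣ) : dx m a⁻¹ = (dx m a)⁻¹ := by simp only [dx, map_inv]

omit H in
theorem dy_mul (a b : Fˣ) : dy m s (a * b) = dy m s a * dy m s b := by simp only [dy, dx_mul]; group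

omit H in
theorem dy_one : dy m s (1 : Fˣ) = 1 := by simp [dy, dx_one]

omit H in
theorem dy_inv (a : Fˣ) : dy m s a⁻¹ = (dy m s a)⁻¹ := by simp only [dy, dx_inv, cj_inv]

theorem gen_pow (a : Fˣ) : ∃ n : ℕ, H.ω ^ n = a := mem_powers_iff_mem_zpowers.2 (H.hω a)

theorem dx_dy (a b : Fˣ) : Commute (dx m a) (dy m s b) := by
  obtain ⟨i, rfl⟩ := H.gen_pow a
  obtain ⟨j, rfl⟩ := H.gen_pow b
  have h : Commute (dx m H.ω) (dy m s H.ω) := (H.raw hF 1 rfl).symm
  have e1 : dx m (H.ω ^ i) = dx m H.ω ^ i := by simp only [dx, map_pow]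
  have e2 : dy m s (H.ω ^ j) = dy m s H.ω ^ j := by
    induction j with
    | zero => simp [dy_one]
    | succ j ih => rw [pow_succ, dy_mul, ih, pow_succ]
  rw [e1, e2]
  exact h.pow_pow i j

omit H in
theorem dx_dx (a b : Fˣ) : Commute (dx m a) (dx m b) := by
  show dx m a * dx m b = dx m b * dx m a
  rw [← dx_mul, ← dx_mul, mul_comm]

omit H in
theorem dy_dy (a b : Fˣ) : Commute (dy m s a) (dy m s b) := by
  show dy m s a * dy m s b = dy m s b * dy m s a
  rw [← dy_mul, ← dy_mul, mul_comm]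

theorem lx_mul (a b : Fˣ) : lx m s (a * b) = lx m s a * lx m s b := by
  simp only [lx, dx_mul, dy_mul, _root_.mul_inv_rev]
  rw [((dx_dx (m := m) a b).inv_inv.eq).symm]
  have h := ((H.dx_dy b a).inv_left).eq
  simp only [mul_assoc]
  rw [← mul_assoc (dx m b)⁻¹ (dy m s a), h, mul_assoc]

theorem dx_lx (a b : Fˣ) : Commute (dx m a) (lx m s b) :=
  ((dx_dx (m := m) a b).inv_right).mul_right (H.dx_dy a b)

theorem lx_one : lx m s (1 : Fˣ) = 1 := by simp [lx, dx_one, dy_one]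

theorem lx_inv (a : Fˣ) : lx m s a⁻¹ = (lx m s a)⁻¹ :=
  eq_inv_of_mul_eq_one_left (by rw [← H.lx_mul, inv_mul_cancel, H.lx_one])

theorem lx_pow (a : Fˣ) (n : ℕ) : lx m s (a ^ n) = lx m s a ^ n := by
  induction n with
  | zero => simp [H.lx_one]
  | succ n ih => rw [pow_succ, H.lx_mul, ih, pow_succ]

omit H in
theorem dy_eq (a : Fˣ) : dy m s a = dx m a * lx m s a := by simp [lx]

/-- The long torus only depends on the norm. -/
theorem lx_ker {a : Fˣ} (ha : nm hF (a : F) = 1) : lx m s a = 1 := by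
  obtain ⟨n, rfl⟩ := H.gen_pow a
  have h4 : lx m s (H.ω ^ (q - 1)) = 1 := by
    show (dx m _)⁻¹ * dy m s _ = 1
    rw [H.raw hF 3 rfl, inv_mul_cancel]
  have h1 : H.ω ^ (n * (q + 1)) = 1 := by
    refine Units.ext ?_
    have := congrArg Subtype.val ha
    rw [nm_val, Forms.qEnd_apply, ← pow_succ'] at this
    rw [pow_mul, Units.val_pow_eq_pow_val, Units.val_one]
    exact this
  have hd := orderOf_dvd_of_pow_eq_one h1
  rw [orderOf_eq_card_of_forall_mem_zpowers H.hω, Forms.units_card hF, mul_comm (q + 1)] at hd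
  obtain ⟨c, rfl⟩ := Nat.dvd_of_mul_dvd_mul_right (Nat.succ_pos q) hd
  rw [pow_mul, H.lx_pow, h4, one_pow]

theorem lx_congr {a b : Fˣ} (h : nm hF (a : F) = nm hF (b : F)) : lx m s a = lx m s b := by
  rw [← mul_inv_eq_one, ← H.lx_inv, ← H.lx_mul]
  apply H.lx_ker
  have e : nm hF ((b : F)⁻¹) = (nm hF (b : F))⁻¹ :=
    eq_inv_of_mul_eq_one_left (by rw [← map_mul, inv_mul_cancel₀ b.ne_zero, map_one])
  rw [Units.val_mul, Units.val_inv_eq_inv_val, map_mul, h, e, mul_inv_cancel₀ (nm_units hF b)]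

theorem s_sq : s * s = lx m s (H.ω ^ H.k) := H.raw hF 4 rfl

/-- Conjugation by the conjugate torus on the short copy. -/
theorem dy_conj (a : Fˣ) (A : SL(2, F)) : dy m s a * m A * (dy m s a)⁻¹ = m (dg (rU hF a) A) := by
  have e : (MulAut.conj (dy m s H.ω)).toMonoidHom.comp m = m.comp (dg (rU hF H.ω)) := by
    refine hom_ext_gens H.ω H.hω fun A hA => ?_
    simp only [MonoidHom.comp_apply, MulEquiv.toMonoidHom_eq_coe, MonoidHom.coe_coe, MulAut.conj_apply]
    simp only [gens, List.mem_cons, List.not_mem_nil, or_false] at hA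
    rcases hA with rfl | rfl | rfl
    · rw [dg_uL, mul_one]; exact H.raw hF 0 rfl
    · rw [Sp4.dg_dL, mul_inv_eq_iff_eq_mul]; exact H.raw hF 1 rfl
    · rw [Sp4.dg_tL, map_mul]; exact H.raw hF 2 rfl
  obtain ⟨n, rfl⟩ := H.gen_pow a
  induction n generalizing A with
  | zero => simp [dy_one, dg_one]
  | succ n ih =>
    have f := DFunLike.congr_fun e A
    simp only [MonoidHom.comp_apply, MulEquiv.toMonoidHom_eq_coe, MonoidHom.coe_coe, MulAut.conj_apply] at f
    rw [pow_succ, dy_mul, cj_cj, f, ih, dg_dg, map_mul]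

omit H in
theorem dx_u (a : Fˣ) (t : F) : dx m a * ux m t * (dx m a)⁻¹ = ux m ((a : F) ^ 2 * t) := by
  simp only [dx, ux, ← map_inv m, ← map_mul, dL_conj]

theorem dy_u (a : Fˣ) (t : F) : dy m s a * ux m t * (dy m s a)⁻¹ = ux m ((rU hF a : F) * t) := by
  simp only [ux, H.dy_conj, dg_uL]

theorem s_dx (a : Fˣ) : s⁻¹ * dx m a * s = dy m s a := by
  have h : Commute (s * s) (dy m s a) := by
    rw [H.s_sq]
    exact ((H.dx_dy _ a).inv_left).mul_left (dy_dy _ a)
  calc s⁻¹ * dx m a * s = (s * s)⁻¹ * dy m s a * (s * s) := by simp only [dy]; group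
    _ = dy m s a := by rw [mul_assoc, ← h.eq, inv_mul_cancel_left]

theorem s_dy (a : Fˣ) : s * dy m s a * s⁻¹ = dx m a := by rw [← H.s_dx]; group

theorem dx_c (a : Fˣ) (v : F) : dx m a * cx m s v * (dx m a)⁻¹ = cx m s ((rU hF a : F) * v) := by
  calc dx m a * cx m s v * (dx m a)⁻¹
      = s * ((s⁻¹ * dx m a * s) * ux m (-v) * (s⁻¹ * dx m a * s)⁻¹) * s⁻¹ := by simp only [cx]; group
    _ = _ := by rw [H.s_dx, H.dy_u, mul_neg]; rfl

theorem dy_c (a : Fˣ) (v : F) : dy m s a * cx m s v * (dy m s a)⁻¹ = cx m s ((a : F) ^ 2 * v) := by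
  simp only [dy, cx]
  calc _ = s * (dx m a * ux m (-v) * (dx m a)⁻¹) * s⁻¹ := by group
    _ = _ := by rw [dx_u, mul_neg]

theorem lx_u (b : Fˣ) (t : F) :
    lx m s b * ux m t * (lx m s b)⁻¹ = ux m ((rU hF b : F) / (b : F) ^ 2 * t) := by
  rw [lx, cj_cj, H.dy_u, ← dx_inv, dx_u, Units.val_inv_eq_inv_val, inv_pow, ← mul_assoc, inv_mul_eq_div]

theorem lx_c (b : Fˣ) (v : F) :
    lx m s b * cx m s v * (lx m s b)⁻¹ = cx m s ((b : F) ^ 2 / (rU hF b : F) * v) := by
  rw [lx, cj_cj, H.dy_c, ← dx_inv, H.dx_c, map_inv, Units.val_inv_eq_inv_val, ← mul_assoc, inv_mul_eq_div]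

omit H in
theorem lU_val (b : Fˣ) : (b : F) ^ 2 / (rU hF b : F) = (nm hF (b : F) : F) := by
  rw [rU_val, nm_val]
  have h := (map_ne_zero σ).2 b.ne_zero
  field_simp

omit H in
theorem lU_inv (b : Fˣ) : (rU hF b : F) / (b : F) ^ 2 = ((nm hF (b : F))⁻¹ : Fix hF) := by
  rw [Subfield.coe_inv, ← lU_val, inv_div]

omit H in
theorem wx_dx (a : Fˣ) : wx m * dx m a * (wx m)⁻¹ = dx m a⁻¹ := by
  simp only [wx, dx, ← map_inv m, ← map_mul, tL_conj, map_inv dL]

theorem dy_w (a : Fˣ) : dy m s a * wx m * (dy m s a)⁻¹ = wx m * dx m (rU hF a)⁻¹ := by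
  simp only [wx, dx, H.dy_conj, Sp4.dg_tL, map_mul]

theorem wx_dy (a : Fˣ) : wx m * dy m s a * (wx m)⁻¹ = dx m (rU hF a)⁻¹ * dy m s a := by
  have h := H.dy_w a
  rw [mul_inv_eq_iff_eq_mul] at h
  have e : dy m s a = wx m * (dx m (rU hF a)⁻¹ * dy m s a) * (wx m)⁻¹ := by
    rw [← mul_assoc, ← h]; group
  have c : wx m * dx m (rU hF a)⁻¹ * (wx m)⁻¹ = dx m (rU hF a) := by rw [wx_dx, inv_inv]
  rw [cj_mul, c] at e
  have := congrArg (fun z => dx m (rU hF a)⁻¹ * z) e
  simp only [← mul_assoc, dx_inv, inv_mul_cancel, one_mul] at this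
  rw [dx_inv]
  exact this.symm

omit H in
theorem wx_sq : wx m * wx m = dx m (-1) := by simp only [wx, dx, ← map_mul, tL_sq]

theorem lx_neg_one : lx m s (-1 : Fˣ) = 1 := H.lx_ker (by rw [Units.val_neg, Units.val_one, nm_neg_one])

theorem dy_neg_one : dy m s (-1 : Fˣ) = dx m (-1) := by rw [dy_eq, H.lx_neg_one, mul_one]

omit H in
theorem s_u (t : F) : s * ux m t * s⁻¹ = cx m s (-t) := by simp [cx]

theorem s_c (v : F) : s * cx m s v * s⁻¹ = ux m v := by
  have h := H.lx_u (H.ω ^ H.k) (-v)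
  rw [lU_inv, H.hk, inv_neg, inv_one, Subfield.coe_neg, Subfield.coe_one, neg_one_mul, neg_neg] at h
  rw [cx, ← cj_cj, H.s_sq]
  exact h

end Hyp

end Cfsg.Agent.SU4Presentation
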