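/-
The commutator of the two short root groups is a central bilinear function of the trace form.
-/
import Cfsg.Agent.Lib.SU4Presentation.Torus

set_option autoImplicit false
set_option linter.unusedSectionVars false

namespace Cfsg.Agent.SU4Presentation

open Matrix SL2Presentation Cfsg.Agent.BoundedPres
open scoped MatrixGroups

theorem cj_comm {X : Type*} [Group X] {g a b : X} (h : Commute a b) :
    Commute (g * a * g⁻¹) (g * b * g⁻¹) := by
  show _ = _
  rw [← cj_mul, h.eq, cj_mul]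

variable {F : Type*} [Field F] [Fintype F] {q : ℕ} {hF : Fintype.card F = q ^ 2}

local notation "σ" => Forms.qEnd hF

namespace Hyp

variable {Q : Type*} [Group Q] {m : SL(2, F) →* Q} {s : Q} (H : Hyp hF m s)
include H

/-- Commuting with both short root groups. -/
def Cen (m : SL(2, F) →* Q) (s z : Q) : Prop :=
  (∀ t, Commute z (ux m t)) ∧ ∀ v, Commute z (cx m s v)

omit H in
theorem cen_mul {z z' : Q} (h : Cen m s z) (h' : Cen m s z') : Cen m s (z * z') :=
  ⟨fun t => (h.1 t).mul_left (h'.1 t), fun v => (h.2 v).mul_left (h'.2 v)⟩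

omit H in
theorem cen_one : Cen m s 1 := ⟨fun _ => Commute.one_left _, fun _ => Commute.one_left _⟩

theorem ht_u (a b : Fˣ) (t : F) : dx m a * lx m s b * ux m t * (dx m a * lx m s b)⁻¹ =
    ux m ((a : F) ^ 2 * (((nm hF (b : F))⁻¹ : Fix hF) : F) * t) := by
  rw [cj_cj, H.lx_u, dx_u, lU_inv, mul_assoc]

theorem ht_c (a b : Fˣ) (v : F) : dx m a * lx m s b * cx m s v * (dx m a * lx m s b)⁻¹ =
    cx m s ((rU hF a : F) * (nm hF (b : F) : F) * v) := by
  rw [cj_cj, H.lx_c, H.dx_c, lU_val, mul_assoc]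

omit H in
theorem cj_cm {g : Q} {α γ : F} (hu : ∀ t, g * ux m t * g⁻¹ = ux m (α * t))
    (hc : ∀ v, g * cx m s v * g⁻¹ = cx m s (γ * v)) (t v : F) :
    g * cm m s t v * g⁻¹ = cm m s (α * t) (γ * v) := by
  rw [cm, cm, cj_mul, cj_mul, cj_mul, cj_inv, cj_inv, hu, hc]

omit H in
theorem cj_cen {g : Q} {α γ : F} (hα : α ≠ 0) (hγ : γ ≠ 0) (hu : ∀ t, g * ux m t * g⁻¹ = ux m (α * t))
    (hc : ∀ v, g * cx m s v * g⁻¹ = cx m s (γ * v)) {z : Q} (h : Cen m s z) : Cen m s (g * z * g⁻¹) := by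
  refine ⟨fun t => ?_, fun v => ?_⟩
  · have := cj_comm (g := g) (h.1 (α⁻¹ * t))
    rwa [hu, mul_inv_cancel_left₀ hα] at this
  · have := cj_comm (g := g) (h.2 (γ⁻¹ * v))
    rwa [hc, mul_inv_cancel_left₀ hγ] at this

/-- The basic commutator. -/
def z₀ : Q := cm m s 1 H.u₀

theorem z₀_u1 : Commute H.z₀ (ux m 1) := H.raw hF 6 rfl

theorem z₀_c1 : Commute H.z₀ (cx m s 1) := H.raw hF 7 rfl

theorem not_three (h3 : q ≠ 3) :
    Commute (lx m s H.ω) H.z₀ ∧ Commute (dx m (H.ω ^ (q - 1))) H.z₀ := by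
  constructor
  · exact H.raw hF 14 (by rw [decide_eq_false h3]; rfl)
  · exact H.raw hF 15 (by rw [decide_eq_false h3]; rfl)

theorem of_three (h3 : q = 3) :
    Commute H.z₀ (ux m (H.ω : F)) ∧ Commute H.z₀ (cx m s (H.ω : F)) := by
  constructor
  · exact H.raw hF 14 (by rw [decide_eq_true h3]; rfl)
  · exact H.raw hF 15 (by rw [decide_eq_true h3]; rfl)

theorem ω_notMem : (H.ω : F) ∉ Fix hF := by
  intro h
  obtain ⟨e, he⟩ := exists_notMem hF
  refine he ?_
  rcases eq_or_ne e 0 with rfl | h0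
  · exact zero_mem _
  obtain ⟨n, hn⟩ := H.gen_pow (Units.mk0 e h0)
  rw [← Units.val_mk0 h0, ← hn, Units.val_pow_eq_pow_val]
  exact pow_mem h n

theorem z₀_cen : Cen m s H.z₀ := by
  let Su : AddSubgroup F :=
    { carrier := {t | Commute H.z₀ (ux m t)}
      zero_mem' := by show Commute _ _; rw [ux_zero]; exact Commute.one_right _
      add_mem' := fun {a b} ha hb => by show Commute _ _; rw [ux_add]; exact ha.mul_right hb
      neg_mem' := fun {a} ha => by show Commute _ _; rw [ux_neg]; exact ha.inv_right }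
  let Sc : AddSubgroup F :=
    { carrier := {v | Commute H.z₀ (cx m s v)}
      zero_mem' := by show Commute _ _; rw [cx_zero]; exact Commute.one_right _
      add_mem' := fun {a b} ha hb => by show Commute _ _; rw [cx_add]; exact ha.mul_right hb
      neg_mem' := fun {a} ha => by show Commute _ _; rw [cx_neg]; exact ha.inv_right }
  have finish : ∀ (S : AddSubgroup F) (e : F), e ∉ Fix hF →
      (∀ r : Fix hF, (r : F) ∈ S) → (∀ r : Fix hF, (r : F) * e ∈ S) → ∀ x, x ∈ S := by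
    intro S e he h1 h2 x
    obtain ⟨r, t, rfl⟩ := decomp hF he x
    exact add_mem (h1 r) (h2 t)
  by_cases h3 : q = 3
  · -- the prime field
    have hK : ∀ r : Fix hF, r = 0 ∨ r = 1 ∨ r = -1 := by
      intro r
      have hc : Fintype.card (Fix hF) = 3 := by rw [card_Fix, h3]
      rcases eq_or_ne r 0 with h | h
      · exact Or.inl h
      · right
        have := FiniteField.pow_card_sub_one_eq_one r h
        rw [hc] at this
        exact mul_self_eq_one_iff.1 (by rwa [sq] at this)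
    have small : ∀ (S : AddSubgroup F) (x : F), x ∈ S → ∀ r : Fix hF, (r : F) * x ∈ S := by
      intro S x hx r
      rcases hK r with rfl | rfl | rfl <;> simp [hx]
    have hu := finish Su _ H.ω_notMem
      (fun r => by simpa using small Su 1 H.z₀_u1 r) (small Su _ (H.of_three h3).1)
    have hc := finish Sc _ H.ω_notMem
      (fun r => by simpa using small Sc 1 H.z₀_c1 r) (small Sc _ (H.of_three h3).2)
    exact ⟨hu, hc⟩
  · obtain ⟨hl, hd⟩ := H.not_three h3
    have keyu : ∀ {g : Q} {α : F}, Commute g H.z₀ → (∀ t, g * ux m t * g⁻¹ = ux m (α * t)) →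
        ∀ t ∈ Su, α * t ∈ Su := by
      intro g α hg hu t ht
      have := cj_comm (g := g) (show Commute H.z₀ (ux m t) from ht)
      rwa [hu, hg.eq, mul_inv_cancel_right] at this
    have keyc : ∀ {g : Q} {γ : F}, Commute g H.z₀ → (∀ v, g * cx m s v * g⁻¹ = cx m s (γ * v)) →
        ∀ v ∈ Sc, γ * v ∈ Sc := by
      intro g γ hg hc v hv
      have := cj_comm (g := g) (show Commute H.z₀ (cx m s v) from hv)
      rwa [hc, hg.eq, mul_inv_cancel_right] at this
    have hlinv : ∀ t, (lx m s H.ω)⁻¹ * ux m t * (lx m s H.ω) = ux m ((nm hF (H.ω : F) : F) * t) := by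
      intro t
      rw [← H.lx_inv]
      have := H.lx_u H.ω⁻¹ t
      rw [lU_inv] at this
      rw [show lx m s H.ω = (lx m s H.ω⁻¹)⁻¹ by rw [H.lx_inv, inv_inv], this]
      congr 3
      rw [Units.val_inv_eq_inv_val, eq_comm, ← inv_eq_iff_eq_inv]
      exact (eq_inv_of_mul_eq_one_left (by rw [← map_mul, inv_mul_cancel₀ H.ω.ne_zero, map_one])).symm
    have sclu : ∀ t ∈ Su, (nm hF (H.ω : F) : F) * t ∈ Su :=
      keyu (g := (lx m s H.ω)⁻¹) hl.inv_left fun t => by rw [inv_inv]; exact hlinv t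
    have sclc : ∀ v ∈ Sc, (nm hF (H.ω : F) : F) * v ∈ Sc :=
      keyc hl fun v => by rw [H.lx_c, lU_val]
    have hrU : (rU hF (H.ω ^ (q - 1)) : F) = (((H.ω ^ (q - 1)) ^ 2 : Fˣ) : F) := by
      congr 1
      have hn : σu hF (H.ω ^ (q - 1)) = (H.ω ^ (q - 1))⁻¹ := by
        rw [σu_pow, ← pow_mul, eq_inv_iff_mul_eq_one, ← pow_add, ← Nat.mul_succ, mul_comm,
          ← Forms.units_card hF, pow_card_eq_one']
      show H.ω ^ (q - 1) * (σu hF (H.ω ^ (q - 1)))⁻¹ = _
      rw [hn, inv_inv, sq]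
    have ze := sq_zeta_notMem hF H.hω h3
    refine ⟨finish Su _ ze (fun r => ?_) (fun r => ?_), finish Sc _ ze (fun r => ?_) (fun r => ?_)⟩
    · simpa using mul_mem_of_gen hF H.hω sclu r H.z₀_u1
    · exact mul_mem_of_gen hF H.hω sclu r (by
        have := keyu hd (fun t => dx_u (m := m) (H.ω ^ (q - 1)) t) 1 H.z₀_u1
        simpa using this)
    · simpa using mul_mem_of_gen hF H.hω sclc r H.z₀_c1
    · exact mul_mem_of_gen hF H.hω sclc r (by
        have := keyc hd (fun v => H.dx_c (H.ω ^ (q - 1)) v) 1 H.z₀_c1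
        rw [hrU] at this
        simpa using this)

theorem cm_add_right (v v' : F) : cm m s 1 (v + v') = cm m s 1 v * (cx m s v * cm m s 1 v' * (cx m s v)⁻¹) := by
  simp only [cm, cx_add]; group

theorem cm_zero_right (t : F) : cm m s t 0 = 1 := by simp [cm, cx_zero]

theorem cm_zero_left (v : F) : cm m s (0 : F) v = 1 := by simp [cm, ux_zero]

theorem cen_comm_right {z : Q} (h : Cen m s z) (v : F) : cx m s v * z * (cx m s v)⁻¹ = z := by
  rw [← (h.2 v).eq, mul_inv_cancel_right]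

theorem cen_of_sum {v v' : F} (h : Cen m s (cm m s 1 v)) (h' : Cen m s (cm m s 1 v')) :
    cm m s 1 (v + v') = cm m s 1 v * cm m s 1 v' := by rw [H.cm_add_right, H.cen_comm_right h']

theorem cen_one_all (v : F) : Cen m s (cm m s 1 v) := by
  let V : AddSubgroup F :=
    { carrier := {v | Cen m s (cm m s 1 v)}
      zero_mem' := by show Cen m s _; rw [H.cm_zero_right]; exact cen_one
      add_mem' := fun {a b} ha hb => by show Cen m s _; rw [H.cen_of_sum ha hb]; exact cen_mul ha hb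
      neg_mem' := fun {a} ha => by
        obtain ⟨p, hp⟩ := CharP.exists F
        have hpp := CharP.char_is_prime F p
        show Cen m s _
        have hn : ∀ n : ℕ, Cen m s (cm m s 1 ((n : F) * a)) := by
          intro n
          induction n with
          | zero => rw [Nat.cast_zero, zero_mul, H.cm_zero_right]; exact cen_one
          | succ n ih =>
            rw [Nat.cast_succ, add_mul, one_mul, H.cen_of_sum ih ha]
            exact cen_mul ih ha
        have hp0 : p ≠ 0 := hpp.ne_zero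
        have e : ((p - 1 : ℕ) : F) = -1 := by
          rw [Nat.cast_sub (Nat.one_le_iff_ne_zero.2 hp0), CharP.cast_eq_zero, Nat.cast_one, zero_sub]
        have := hn (p - 1)
        rwa [e, neg_one_mul] at this }
  have hsq : ∀ c : Fix hF, ∀ x ∈ V, (c : F) ^ 2 * x ∈ V := by
    intro c x hx
    rcases eq_or_ne c 0 with rfl | hc
    · simp
    have hc0 : (c : F) ≠ 0 := fun h => hc (Subtype.ext h)
    set a := Units.mk0 (c : F) hc0
    have h1 : (a : F) ^ 2 * (((nm hF (a : F))⁻¹ : Fix hF) : F) = 1 := by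
      rw [Subfield.coe_inv, Units.val_mk0, nm_fix, SubmonoidClass.coe_pow, mul_inv_cancel₀ (pow_ne_zero _ hc0)]
    have h2 : (rU hF a : F) * (nm hF (a : F) : F) = (c : F) ^ 2 := by
      rw [rU_val, Units.val_mk0, σ_eq, div_self hc0, nm_fix, one_mul, SubmonoidClass.coe_pow]
    have e := cj_cm (s := s) (H.ht_u a a) (H.ht_c a a) 1 x
    rw [h1, h2, one_mul] at e
    show Cen m s _
    rw [← e]
    exact cj_cen (by rw [h1]; exact one_ne_zero) (by rw [h2]; exact pow_ne_zero _ hc0)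
      (H.ht_u a a) (H.ht_c a a) hx
  have h0 : ∀ r : Fix hF, (r : F) * H.u₀ ∈ V := fun r => mul_mem_of_sq hF hsq r H.z₀_cen
  have h1 : ∀ r : Fix hF, (r : F) * H.u₁ ∈ V := fun r => mul_mem_of_sq hF hsq r (by
    show Cen m s _
    rw [show cm m s 1 H.u₁ = 1 from H.hG _ (List.mem_of_getElem? (i := 5) rfl)]
    exact cen_one)
  obtain ⟨r, t, hrt⟩ : ∃ r t : Fix hF, v = r * H.u₀ + t * H.u₁ := by
    have he : H.u₀ / H.u₁ ∉ Fix hF := fun h => by
      have e : H.u₀ = ((⟨_, h⟩ : Fix hF) : F) * H.u₁ := by simp [H.h₁']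
      have := congrArg (tr hF) e
      rw [H.h₀, tr_mul, H.h₁, mul_zero] at this
      exact one_ne_zero this
    obtain ⟨t, r, h⟩ := decomp hF he (v / H.u₁)
    refine ⟨r, t, ?_⟩
    rw [div_eq_iff H.h₁'] at h
    rw [h]
    field_simp [H.h₁']
    ring
  rw [hrt]
  exact add_mem (s := V) (h0 r) (h1 t)

theorem cm_one_add (v v' : F) : cm m s 1 (v + v') = cm m s 1 v * cm m s 1 v' :=
  H.cen_of_sum (H.cen_one_all v) (H.cen_one_all v')

/-- The long root group of the highest root. -/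
def xd (r : Fix hF) : Q := cm m s 1 ((r : F) * H.u₀)

theorem xd_add (r r' : Fix hF) : H.xd (r + r') = H.xd r * H.xd r' := by
  simp only [xd, Subfield.coe_add, add_mul, H.cm_one_add]

theorem xd_zero : H.xd 0 = 1 := by simp [xd, H.cm_zero_right]

theorem xd_neg (r : Fix hF) : H.xd (-r) = (H.xd r)⁻¹ :=
  eq_inv_of_mul_eq_one_left (by rw [← H.xd_add, neg_add_cancel, H.xd_zero])

theorem xd_cen (r : Fix hF) : Cen m s (H.xd r) := H.cen_one_all _

theorem cm_u₁ (r : Fix hF) : cm m s 1 ((r : F) * H.u₁) = 1 := by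
  let W : AddSubgroup F :=
    { carrier := {v | cm m s 1 v = 1}
      zero_mem' := H.cm_zero_right 1
      add_mem' := fun {a b} (ha : _ = 1) (hb : _ = 1) => by
        show _ = 1
        rw [H.cm_one_add, ha, hb, one_mul]
      neg_mem' := fun {a} (ha : _ = 1) => by
        show _ = 1
        have h := H.cm_one_add a (-a)
        rw [add_neg_cancel, H.cm_zero_right, ha, one_mul] at h
        exact h.symm }
  refine mul_mem_of_sq hF (S := W) (fun c x (hx : _ = 1) => ?_) r
    (show cm m s 1 H.u₁ = 1 from H.hG _ (List.mem_of_getElem? (i := 5) rfl))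
  show _ = 1
  rcases eq_or_ne c 0 with rfl | hc
  · simp [H.cm_zero_right]
  have hc0 : (c : F) ≠ 0 := fun h => hc (Subtype.ext h)
  set a := Units.mk0 (c : F) hc0
  have h1 : (a : F) ^ 2 * (((nm hF (a : F))⁻¹ : Fix hF) : F) = 1 := by
    rw [Subfield.coe_inv, Units.val_mk0, nm_fix, SubmonoidClass.coe_pow, mul_inv_cancel₀ (pow_ne_zero _ hc0)]
  have h2 : (rU hF a : F) * (nm hF (a : F) : F) = (c : F) ^ 2 := by
    rw [rU_val, Units.val_mk0, σ_eq, div_self hc0, nm_fix, one_mul, SubmonoidClass.coe_pow]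
  have e := cj_cm (s := s) (H.ht_u a a) (H.ht_c a a) 1 x
  rw [h1, h2, one_mul] at e
  rw [← e, hx, mul_one, mul_inv_cancel]

theorem cm_one_eq (v : F) : cm m s 1 v = H.xd (tr hF v) := by
  have hd : tr hF (v - (tr hF v : F) * H.u₀) = 0 := by rw [map_sub, tr_mul, H.h₀, mul_one, sub_self]
  set d := v - (tr hF v : F) * H.u₀ with hd'
  have he : d / H.u₁ ∈ Fix hF := by
    have e0 := congrArg Subtype.val hd
    have e1 := congrArg Subtype.val H.h₁
    simp only [tr_val, ZeroMemClass.coe_zero] at e0 e1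
    rw [mem_Fix, map_div₀, show σ d = -d by linear_combination e0,
      show σ H.u₁ = -H.u₁ by linear_combination e1, neg_div_neg_eq]
  have : v = (tr hF v : F) * H.u₀ + ((⟨_, he⟩ : Fix hF) : F) * H.u₁ := by
    simp only [div_mul_cancel₀ _ H.h₁', hd']; ring
  conv_lhs => rw [this, H.cm_one_add, H.cm_u₁, mul_one]
  rfl

theorem cm_add_left (t t' v : F) (h : Cen m s (cm m s t' v)) :
    cm m s (t + t') v = cm m s t v * cm m s t' v := by
  have e : cm m s (t + t') v = ux m t * cm m s t' v * (ux m t)⁻¹ * cm m s t v := by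
    simp only [cm, ux_add]; group
  rw [e, ← (h.1 t).eq, mul_inv_cancel_right]
  -- central
  have hc : Commute (cm m s t' v) (cm m s t v) := by
    simp only [cm]
    exact (((h.1 t).mul_right (h.2 v)).mul_right (h.1 t).inv_right).mul_right (h.2 v).inv_right
  exact hc.eq

theorem cen_all (t v : F) : Cen m s (cm m s t v) := by
  obtain ⟨b, c, rfl⟩ := exists_sq_add_sq t
  have hsq : ∀ a : F, ∀ w, Cen m s (cm m s (a ^ 2) w) := by
    intro a w
    rcases eq_or_ne a 0 with rfl | ha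
    · rw [zero_pow two_ne_zero, H.cm_zero_left]; exact cen_one
    set u := Units.mk0 a ha
    have e := cj_cm (s := s) (fun t => dx_u (m := m) u t) (H.dx_c u) 1 ((rU hF u : F)⁻¹ * w)
    rw [mul_one, mul_inv_cancel_left₀ (Units.ne_zero _)] at e
    show Cen m s (cm m s ((u : F) ^ 2) w)
    rw [← e]
    exact cj_cen (pow_ne_zero _ u.ne_zero) (Units.ne_zero _) (fun t => dx_u (m := m) u t) (H.dx_c u)
      (H.cen_one_all _)
  rw [H.cm_add_left _ _ _ (hsq c v)]
  exact cen_mul (hsq b v) (hsq c v)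

theorem xd_dω (r : Fix hF) : dx m H.ω * H.xd r * (dx m H.ω)⁻¹ = H.xd (nm hF (H.ω : F) * r) := by
  have hsq : ∀ c : Fix hF, dx m H.ω * H.xd (c ^ 2) * (dx m H.ω)⁻¹ = H.xd (nm hF (H.ω : F) * c ^ 2) := by
    intro c
    rcases eq_or_ne c 0 with rfl | hc
    · simp [H.xd_zero]
    have hc0 : (c : F) ≠ 0 := fun h => hc (Subtype.ext h)
    set a := Units.mk0 (c : F) hc0
    set g := dx m a * lx m s a
    have h1 : (a : F) ^ 2 * (((nm hF (a : F))⁻¹ : Fix hF) : F) = 1 := by
      rw [Subfield.coe_inv, Units.val_mk0, nm_fix, SubmonoidClass.coe_pow, mul_inv_cancel₀ (pow_ne_zero _ hc0)]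
    have h2 : (rU hF a : F) * (nm hF (a : F) : F) = (c : F) ^ 2 := by
      rw [rU_val, Units.val_mk0, σ_eq, div_self hc0, nm_fix, one_mul, SubmonoidClass.coe_pow]
    have eC : ∀ x, g * cm m s 1 x * g⁻¹ = cm m s 1 ((c : F) ^ 2 * x) := fun x => by
      have e := cj_cm (s := s) (H.ht_u a a) (H.ht_c a a) 1 x
      rwa [h1, h2, one_mul] at e
    have hcomm : Commute (dx m H.ω) g :=
      (dx_dx (m := m) H.ω a).mul_right (H.dx_lx H.ω a)
    have h10 : dx m H.ω * cm m s 1 H.u₀ * (dx m H.ω)⁻¹ = cm m s 1 ((H.ω : F) * σ (H.ω : F) * H.u₀) :=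
      H.raw hF 8 rfl
    calc dx m H.ω * H.xd (c ^ 2) * (dx m H.ω)⁻¹
        = dx m H.ω * (g * cm m s 1 H.u₀ * g⁻¹) * (dx m H.ω)⁻¹ := by rw [eC, xd, SubmonoidClass.coe_pow]
      _ = g * (dx m H.ω * cm m s 1 H.u₀ * (dx m H.ω)⁻¹) * g⁻¹ := by rw [← cj_cj, ← cj_cj, hcomm.eq]
      _ = _ := by
        rw [h10, eC, xd, Subfield.coe_mul, SubmonoidClass.coe_pow, nm_val]
        congr 1
        ring
  obtain ⟨b, c, rfl⟩ := exists_sq_add_sq r
  rw [H.xd_add, cj_mul, hsq, hsq, mul_add, H.xd_add]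

theorem dx_xd (a : Fˣ) (r : Fix hF) : dx m a * H.xd r * (dx m a)⁻¹ = H.xd (nm hF (a : F) * r) := by
  obtain ⟨n, rfl⟩ := H.gen_pow a
  induction n generalizing r with
  | zero => simp [dx_one]
  | succ n ih =>
    rw [pow_succ, dx_mul, cj_cj, H.xd_dω, ih, Units.val_mul, map_mul, mul_assoc]

/-- The commutator formula. -/
theorem cm_eq (t v : F) : cm m s t v = H.xd (tr hF (t * σ v)) := by
  obtain ⟨b, c, rfl⟩ := exists_sq_add_sq t
  have hsq : ∀ a : F, cm m s (a ^ 2) v = H.xd (tr hF (a ^ 2 * σ v)) := by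
    intro a
    rcases eq_or_ne a 0 with rfl | ha
    · simp [H.cm_zero_left, H.xd_zero]
    set u := Units.mk0 a ha
    have e := cj_cm (s := s) (fun t => dx_u (m := m) u t) (H.dx_c u) 1 ((rU hF u : F)⁻¹ * v)
    rw [mul_one, mul_inv_cancel_left₀ (Units.ne_zero _), H.cm_one_eq, H.dx_xd] at e
    show cm m s ((u : F) ^ 2) v = _
    rw [← e]
    congr 1
    apply Subtype.ext
    have hσ := (map_ne_zero σ).2 ha
    simp only [Subfield.coe_mul, nm_val, tr_val, rU_val, map_mul, map_inv₀, map_div₀, σσ, map_pow,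
      Units.val_mk0, u]
    field_simp
    ring
  rw [H.cm_add_left _ _ _ (H.cen_all _ v), hsq, hsq, ← H.xd_add, add_mul, map_add]

theorem rel_ac (t v : F) : ux m t * cx m s v = cx m s v * H.xd (tr hF (t * σ v)) * ux m t := by
  have h := H.cm_eq t v
  have hd := H.xd_cen (tr hF (t * σ v))
  rw [cm] at h
  rw [mul_inv_eq_iff_eq_mul, mul_inv_eq_iff_eq_mul] at h
  rw [h, (hd.2 v).eq]

theorem s_xd (r : Fix hF) : s * H.xd r * s⁻¹ = H.xd r := by
  have h0 : s * H.xd r * s⁻¹ = cm m s 1 ((r : F) * H.u₀) := by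
    have e : s * H.xd r * s⁻¹ = (cm m s ((r : F) * H.u₀) (-1))⁻¹ := by
      simp only [xd]
      rw [cm, cj_mul, cj_mul, cj_mul, cj_inv, cj_inv, s_u, H.s_c, cm]
      group
    rw [e, H.cm_eq, ← H.xd_neg, H.cm_one_eq]
    congr 1
    rw [map_neg, map_one, mul_neg, mul_one, map_neg, neg_neg]
  exact h0

theorem dy_xd (a : Fˣ) (r : Fix hF) : dy m s a * H.xd r * (dy m s a)⁻¹ = H.xd (nm hF (a : F) * r) := by
  conv_lhs => rw [← H.s_xd r]
  calc _ = s * (dx m a * H.xd r * (dx m a)⁻¹) * s⁻¹ := by simp only [dy]; group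
    _ = _ := by rw [H.dx_xd, H.s_xd]

theorem lx_xd (b : Fˣ) (r : Fix hF) : lx m s b * H.xd r * (lx m s b)⁻¹ = H.xd r := by
  rw [lx, cj_cj, H.dy_xd, ← dx_inv, H.dx_xd, ← mul_assoc, ← map_mul, Units.val_inv_eq_inv_val,
    inv_mul_cancel₀ b.ne_zero, map_one, one_mul]

end Hyp

end Cfsg.Agent.SU4Presentation
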