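/-
The long simple root group, the Weyl elements and the rank one relation.
-/
import Cfsg.Agent.Lib.SU4Presentation.Commutator

set_option autoImplicit false
set_option linter.unusedSectionVars false

namespace Cfsg.Agent.SU4Presentation

open Matrix SL2Presentation Cfsg.Agent.BoundedPres
open scoped MatrixGroups

variable {F : Type*} [Field F] [Fintype F] {q : ℕ} {hF : Fintype.card F = q ^ 2}

local notation "σ" => Forms.qEnd hF

namespace Hyp

variable {Q : Type*} [Group Q] {m : SL(2, F) →* Q} {s : Q} (H : Hyp hF m s)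
include H

/-- The long simple root group. -/
def xb (r : Fix hF) : Q := (wx m)⁻¹ * H.xd r * wx m

theorem xb_add (r r' : Fix hF) : H.xb (r + r') = H.xb r * H.xb r' := by
  simp only [xb, H.xd_add]; group

theorem xb_zero : H.xb 0 = 1 := by simp [xb, H.xd_zero]

theorem xb_neg (r : Fix hF) : H.xb (-r) = (H.xb r)⁻¹ :=
  eq_inv_of_mul_eq_one_left (by rw [← H.xb_add, neg_add_cancel, H.xb_zero])

theorem xd_one : H.xd 1 = H.z₀ := by simp [xd, z₀]

theorem xb_one : H.xb 1 = bx m s H.u₀ := by rw [xb, H.xd_one]; rfl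

theorem w_xb (r : Fix hF) : wx m * H.xb r * (wx m)⁻¹ = H.xd r := by simp only [xb]; group

theorem w_xd (r : Fix hF) : wx m * H.xd r * (wx m)⁻¹ = H.xb r := by
  have h : dx m (-1) * H.xd r * (dx m (-1))⁻¹ = H.xd r := by
    rw [H.dx_xd, Units.val_neg, Units.val_one, nm_neg_one, one_mul]
  rw [← wx_sq] at h
  conv_rhs => rw [xb, ← h]
  group

theorem dx_xb (a : Fˣ) (r : Fix hF) :
    dx m a * H.xb r * (dx m a)⁻¹ = H.xb ((nm hF (a : F))⁻¹ * r) := by
  calc dx m a * H.xb r * (dx m a)⁻¹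
      = (wx m)⁻¹ * ((wx m * dx m a * (wx m)⁻¹) * H.xd r * (wx m * dx m a * (wx m)⁻¹)⁻¹) * wx m := by
        simp only [xb]; group
    _ = _ := by
      rw [wx_dx, H.dx_xd, xb]
      congr 4
      exact eq_inv_of_mul_eq_one_left (by rw [← map_mul, ← Units.val_mul, inv_mul_cancel, Units.val_one, map_one])

theorem nm_rU (a : Fˣ) : nm hF (rU hF a : F) = 1 := by
  apply Subtype.ext
  have h := (map_ne_zero σ).2 a.ne_zero
  rw [nm_val, rU_val, map_div₀, σσ, Subfield.coe_one]
  field_simp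

theorem dy_xb (a : Fˣ) (r : Fix hF) : dy m s a * H.xb r * (dy m s a)⁻¹ = H.xb (nm hF (a : F) * r) := by
  calc dy m s a * H.xb r * (dy m s a)⁻¹
      = (wx m)⁻¹ * ((wx m * dy m s a * (wx m)⁻¹) * H.xd r * (wx m * dy m s a * (wx m)⁻¹)⁻¹) * wx m := by
        simp only [xb]; group
    _ = _ := by
      rw [H.wx_dy, cj_cj, H.dy_xd, ← map_inv (rU hF), H.dx_xd, H.nm_rU, one_mul, xb]

theorem lx_xb (b : Fˣ) (r : Fix hF) :
    lx m s b * H.xb r * (lx m s b)⁻¹ = H.xb (nm hF (b : F) ^ 2 * r) := by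
  rw [lx, cj_cj, H.dy_xb, ← dx_inv, H.dx_xb]
  congr 1
  rw [Units.val_inv_eq_inv_val, show nm hF ((b : F)⁻¹) = (nm hF (b : F))⁻¹ from
    eq_inv_of_mul_eq_one_left (by rw [← map_mul, inv_mul_cancel₀ b.ne_zero, map_one]), inv_inv, sq, mul_assoc]

theorem w_c (v : F) : wx m * cx m s v * (wx m)⁻¹ = cx m s (-σ v) := by
  have base : wx m * cx m s 1 * (wx m)⁻¹ = cx m s (-σ 1) := by rw [map_one]; exact H.raw hF 9 rfl
  have add : ∀ a b, wx m * cx m s a * (wx m)⁻¹ = cx m s (-σ a) → wx m * cx m s b * (wx m)⁻¹ = cx m s (-σ b) →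
      wx m * cx m s (a + b) * (wx m)⁻¹ = cx m s (-σ (a + b)) := by
    intro a b ha hb
    rw [cx_add, cj_mul, ha, hb, ← cx_add, map_add, neg_add]
  have hsq : ∀ a : F, wx m * cx m s (a ^ 2) * (wx m)⁻¹ = cx m s (-σ (a ^ 2)) := by
    intro a
    rcases eq_or_ne a 0 with rfl | ha
    · simp [cx_zero]
    set u := Units.mk0 a ha
    have e : a ^ 2 = (u : F) ^ 2 * 1 := by simp [u]
    rw [e, ← H.dy_c, cj_mul, cj_mul, cj_inv, base, H.wx_dy, cj_cj, H.dy_c, ← map_inv (rU hF), H.dx_c]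
    congr 1
    have hσ := (map_ne_zero σ).2 ha
    rw [rU_val, rU_val]
    simp only [Units.val_inv_eq_inv_val, map_inv₀, map_div₀, map_mul, map_pow, map_one, mul_one, σσ,
      Units.val_mk0, u]
    field_simp
  obtain ⟨b, c, rfl⟩ := exists_sq_add_sq v
  exact add _ _ (hsq b) (hsq c)

theorem rel_ad (t : F) (r : Fix hF) : Commute (ux m t) (H.xd r) := ((H.xd_cen r).1 t).symm

theorem rel_cd (v : F) (r : Fix hF) : Commute (cx m s v) (H.xd r) := ((H.xd_cen r).2 v).symm

theorem rel_bc (r : Fix hF) (v : F) : Commute (H.xb r) (cx m s v) := by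
  have h := cj_comm (g := wx m) (H.rel_cd (σ (-v)) r).symm
  rwa [H.w_xd, H.w_c, σσ, neg_neg] at h

theorem rel_bd (r r' : Fix hF) : Commute (H.xb r) (H.xd r') := by
  have base : Commute (H.xb 1) (H.xd 1) := by rw [H.xb_one, H.xd_one]; exact H.raw hF 10 rfl
  have hsq : ∀ c : Fix hF, Commute (H.xb (c ^ 2)) (H.xd 1) := by
    intro c
    rcases eq_or_ne c 0 with rfl | hc
    · simp [H.xb_zero]
    obtain ⟨b, hb⟩ := exists_nm hF c hc
    have := cj_comm (g := lx m s b) base
    rwa [H.lx_xb, H.lx_xd, mul_one, hb] at this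
  have h1 : ∀ r, Commute (H.xb r) (H.xd 1) := by
    intro r
    obtain ⟨b, c, rfl⟩ := exists_sq_add_sq r
    rw [H.xb_add]
    exact (hsq b).mul_left (hsq c)
  rcases eq_or_ne r' 0 with rfl | hr
  · rw [H.xd_zero]; exact Commute.one_right _
  obtain ⟨a, ha⟩ := exists_nm hF r' hr
  have := cj_comm (g := dx m a) (h1 (nm hF (a : F) * r))
  rwa [H.dx_xb, H.dx_xd, mul_one, inv_mul_cancel_left₀ (nm_units hF a), ha] at this

theorem rel_ab (t : F) (r : Fix hF) :
    ux m t * H.xb r = H.xb r * cx m s (t * r) * H.xd (nm hF t * r) * ux m t := by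
  -- the relation at `r = 1`
  let P : F → Prop := fun t => ux m t * H.xb 1 = H.xb 1 * cx m s t * H.xd (nm hF t) * ux m t
  have padd : ∀ a b, P a → P b → P (a + b) := by
    intro a b ha hb
    have hc : ux m a * cx m s b = cx m s b * H.xd (tr hF (a * σ b)) * ux m a := H.rel_ac a b
    have hd : ∀ x, ux m a * H.xd x = H.xd x * ux m a := fun x => (H.rel_ad a x).eq
    have hdc : ∀ x, H.xd x * cx m s b = cx m s b * H.xd x := fun x => (H.rel_cd b x).symm.eq
    show ux m (a + b) * H.xb 1 = _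
    rw [ux_add, mul_assoc, hb, nm_add, H.xd_add, H.xd_add, cx_add]
    simp only [← mul_assoc]
    rw [ha]
    simp only [mul_assoc]
    congr 2
    simp only [← mul_assoc]
    rw [mul_assoc _ (ux m a) (cx m s b), hc]
    simp only [← mul_assoc]
    rw [mul_assoc _ (ux m a) (H.xd (nm hF b)), hd, ← mul_assoc, hdc]
  let S : AddSubgroup F :=
    { carrier := {t | P t}
      zero_mem' := by show P 0; simp [P, ux_zero, cx_zero, nm_zero, H.xd_zero]
      add_mem' := fun {a b} ha hb => padd a b ha hb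
      neg_mem' := fun {a} (ha : P a) => by
        obtain ⟨p, hp⟩ := CharP.exists F
        have hpp := CharP.char_is_prime F p
        show P _
        have hn : ∀ n : ℕ, P ((n : F) * a) := by
          intro n
          induction n with
          | zero => simp [P, ux_zero, cx_zero, nm_zero, H.xd_zero]
          | succ n ih => rw [Nat.cast_succ, add_mul, one_mul]; exact padd _ _ ih ha
        have e : ((p - 1 : ℕ) : F) = -1 := by
          rw [Nat.cast_sub hpp.one_le, CharP.cast_eq_zero, Nat.cast_one, zero_sub]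
        have := hn (p - 1)
        rwa [e, neg_one_mul] at this }
  have h1 : (1 : F) ∈ S := by
    show P 1
    simp only [P, map_one, H.xb_one, H.xd_one]
    exact H.raw hF 11 rfl
  -- conjugation by the torus
  have key : ∀ (g : Q) (α γ : F) (β δ : Fix hF) (_ : ∀ t, g * ux m t * g⁻¹ = ux m (α * t))
      (_ : ∀ v, g * cx m s v * g⁻¹ = cx m s (γ * v)) (_ : ∀ r, g * H.xb r * g⁻¹ = H.xb (β * r))
      (_ : ∀ r, g * H.xd r * g⁻¹ = H.xd (δ * r)) (t : F), P t →
      ux m (α * t) * H.xb β = H.xb β * cx m s (γ * t) * H.xd (δ * nm hF t) * ux m (α * t) := by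
    intro g α γ β δ hu hc hb hd t ht
    have := congrArg (fun z => g * z * g⁻¹) (show ux m t * H.xb 1 = _ from ht)
    simpa only [cj_mul, hu, hc, hb, hd, mul_one] using this
  have scale : ∀ (a b : Fˣ), nm hF (b : F) ^ 2 = nm hF (a : F) → ∀ t ∈ S,
      (a : F) ^ 2 * (((nm hF (b : F))⁻¹ : Fix hF) : F) * t ∈ S := by
    intro a b hab t ht
    have e := key (dx m a * lx m s b) _ _ 1 (nm hF (a : F)) (H.ht_u a b) (H.ht_c a b)
      (fun r => by
        rw [cj_cj, H.lx_xb, H.dx_xb, hab, inv_mul_cancel_left₀ (nm_units hF a), one_mul])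
      (fun r => by rw [cj_cj, H.lx_xd, H.dx_xd]) t ht
    show P _
    convert e using 3
    · congr 2
      congr 1
      have h0 := (map_ne_zero σ).2 b.ne_zero
      have h0' := (map_ne_zero σ).2 a.ne_zero
      have e' := congrArg Subtype.val hab
      simp only [SubmonoidClass.coe_pow, nm_val] at e'
      rw [rU_val, Subfield.coe_inv, nm_val]
      field_simp
      linear_combination -e'
    · congr 1
      rw [map_mul, map_mul, map_pow, nm_fix, inv_pow, hab]
      rw [mul_comm (nm hF (a : F) ^ 2), sq, ← mul_assoc, inv_mul_cancel₀ (nm_units hF a), one_mul]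
  have hK : ∀ x : F, x ∈ S → ∀ r : Fix hF, (r : F) * x ∈ S := by
    intro x hx r
    rcases eq_or_ne r 0 with rfl | hr
    · simp
    have hr0 : (r : F) ≠ 0 := fun h => hr (Subtype.ext h)
    obtain ⟨b, hb⟩ := exists_nm hF r hr
    have := scale (Units.mk0 (r : F) hr0) b (by rw [hb, Units.val_mk0, nm_fix]) x hx
    rwa [Units.val_mk0, hb, Subfield.coe_inv, sq, mul_assoc _ _ ((r : F)⁻¹), mul_inv_cancel₀ hr0, mul_one] at this
  have hall : ∀ t, t ∈ S := by
    by_cases h3 : q = 3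
    · have hω : (H.ω : F) ∈ S := by
        show P _
        have h := H.raw hF 16 (a := ux m (H.ω : F) * bx m s H.u₀)
          (b := bx m s H.u₀ * cx m s (H.ω : F) * cm m s 1 ((H.ω : F) * σ (H.ω : F) * H.u₀) * ux m (H.ω : F))
          (by rw [decide_eq_true h3]; rfl)
        simpa only [P, H.xb_one, xd, nm_val] using h
      intro t
      obtain ⟨r, r', rfl⟩ := decomp hF H.ω_notMem t
      exact add_mem (by simpa using hK 1 h1 r) (hK _ hω r')
    · set z := H.ω ^ (q - 1)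
      have hz : nm hF (z : F) = 1 := by
        apply Subtype.ext
        rw [nm_val, Forms.qEnd_apply, ← pow_succ', ← Units.val_pow_eq_pow_val, ← pow_mul,
          mul_comm (q - 1), ← Forms.units_card hF, pow_card_eq_one']
        rfl
      have := scale z 1 (by rw [Units.val_one, map_one, one_pow, hz]) 1 h1
      rw [Units.val_one, map_one, inv_one, Subfield.coe_one, mul_one, mul_one,
        ← Units.val_pow_eq_pow_val] at this
      intro t
      obtain ⟨r, r', rfl⟩ := decomp hF (sq_zeta_notMem hF H.hω h3) t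
      exact add_mem (by simpa using hK 1 h1 r) (hK _ this r')
  rcases eq_or_ne r 0 with rfl | hr
  · simp [H.xb_zero, cx_zero, H.xd_zero]
  obtain ⟨c, hc⟩ := exists_nm hF r hr
  have e := key (dy m s c) (rU hF c : F) ((c : F) ^ 2) (nm hF (c : F)) (nm hF (c : F))
    (H.dy_u c) (H.dy_c c) (H.dy_xb c) (H.dy_xd c) ((rU hF c : F)⁻¹ * t) (hall _)
  rw [mul_inv_cancel_left₀ (Units.ne_zero _), hc] at e
  convert e using 3
  · congr 2
    rw [← hc, nm_val, rU_val]
    have := (map_ne_zero σ).2 c.ne_zero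
    field_simp
  · congr 1
    rw [map_mul, show nm hF (rU hF c : F)⁻¹ = (1 : Fix hF) by
      rw [← Units.val_inv_eq_inv_val, ← map_inv (rU hF), H.nm_rU], one_mul, mul_comm]

theorem s_cube : (s * H.xb 1) ^ 3 = 1 := by
  rw [H.xb_one]; exact H.hG _ (List.mem_of_getElem? (i := 12) rfl)

theorem s_xb_s (r : Fix hF) (hr : r ≠ 0) : ∃ h : Q, ∃ a b : Fˣ, h = dx m a * lx m s b ∧
    s * H.xb r * s = H.xb (-r⁻¹) * s * H.xb (-r) * h := by
  have hs2 : ∀ x, Commute (s * s) (H.xb x) := by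
    intro x
    have h := H.lx_xb (H.ω ^ H.k) x
    rw [H.hk, neg_one_sq, one_mul] at h
    rw [H.s_sq]
    exact mul_inv_eq_iff_eq_mul.1 h
  have h0 : s * H.xb 1 * s = H.xb (-1) * s * H.xb (-1) * (s * s)⁻¹ := by
    have e := H.s_cube
    rw [pow_three] at e
    have e2 : s * H.xb 1 * s = (H.xb 1)⁻¹ * s⁻¹ * (H.xb 1)⁻¹ := by
      calc s * H.xb 1 * s = s * H.xb 1 * (s * H.xb 1 * (s * H.xb 1)) * ((H.xb 1)⁻¹ * s⁻¹ * (H.xb 1)⁻¹) := by
            group
        _ = _ := by rw [e, one_mul]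
    rw [e2, ← H.xb_neg, show s⁻¹ = s * (s * s)⁻¹ by group, mul_assoc _ (s * (s * s)⁻¹),
      mul_assoc s, (hs2 (-1)).inv_left.eq]
    group
  obtain ⟨c, hc⟩ := exists_nm hF r hr
  refine ⟨lx m s (c * (H.ω ^ H.k)⁻¹), 1, c * (H.ω ^ H.k)⁻¹, by rw [dx_one, one_mul], ?_⟩
  have eb : H.xb r = dy m s c * H.xb 1 * (dy m s c)⁻¹ := by rw [H.dy_xb, mul_one, hc]
  have e1 : dx m c * H.xb (-1) * (dx m c)⁻¹ = H.xb (-r⁻¹) := by rw [H.dx_xb, hc, mul_neg, mul_one]
  have e2 : dy m s c * H.xb (-1) * (dy m s c)⁻¹ = H.xb (-r) := by rw [H.dy_xb, hc, mul_neg, mul_one]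
  have a1 : s * dy m s c = dx m c * s := by rw [← mul_inv_eq_iff_eq_mul, H.s_dy]
  have a2 : (dy m s c)⁻¹ * s = s * (dx m c)⁻¹ := by
    rw [inv_mul_eq_iff_eq_mul, eq_comm, ← mul_assoc, mul_inv_eq_iff_eq_mul, dy, inv_mul_cancel_right]
  calc s * H.xb r * s
      = (s * dy m s c) * H.xb 1 * ((dy m s c)⁻¹ * s) := by rw [eb]; group
    _ = dx m c * (s * H.xb 1 * s) * (dx m c)⁻¹ := by rw [a1, a2]; group
    _ = H.xb (-r⁻¹) * (dx m c * s) * H.xb (-1) * ((s * s)⁻¹ * (dx m c)⁻¹) := by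
        rw [h0, ← e1]; group
    _ = H.xb (-r⁻¹) * s * H.xb (-r) * (dy m s c * ((s * s)⁻¹ * (dx m c)⁻¹)) := by
        rw [← a1, ← e2]; group
    _ = _ := by
        congr 1
        have hz : Commute ((s * s)⁻¹) (dx m c)⁻¹ := by
          rw [H.s_sq]; exact (H.dx_lx c _).symm.inv_inv
        rw [hz.eq, ← mul_assoc, H.lx_mul, H.lx_inv, ← H.s_sq, dy_eq, (H.dx_lx c c).eq]
        group

theorem braid : s * wx m * s * wx m = wx m * s * wx m * s := by
  have h : s * (wx m * s * (wx m)⁻¹) = wx m * s * (wx m)⁻¹ * s := H.raw hF 13 rfl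
  have hc : wx m * wx m * s = s * (wx m * wx m) := by
    rw [wx_sq, ← inv_mul_eq_iff_eq_mul, ← mul_assoc, H.s_dx, H.dy_neg_one]
  calc s * wx m * s * wx m
      = s * (wx m * s * (wx m)⁻¹) * (wx m * wx m) := by group
    _ = wx m * s * (wx m)⁻¹ * s * (wx m * wx m) := by rw [h]
    _ = wx m * s * (wx m)⁻¹ * (wx m * wx m * s) := by rw [hc]; group
    _ = wx m * s * wx m * s := by group

end Hyp

end Cfsg.Agent.SU4Presentation
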