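/-
A group satisfying the relators has at most `|SU₄(q)|` elements: the eight Bruhat cells of cosets of
the Borel subgroup are permuted by the generators.
-/
import Cfsg.Agent.Lib.SU4Presentation.Roots

set_option autoImplicit false
set_option linter.unusedSectionVars false

namespace Cfsg.Agent.SU4Presentation

open Matrix SL2Presentation Cfsg.Agent.BoundedPres
open scoped MatrixGroups

theorem inv_conj {X : Type*} [Group X] {n x y : X} (h : n * x * n⁻¹ = y) : n⁻¹ * y * n = x := by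
  rw [← h]; group

variable {F : Type*} [Field F] [Fintype F] {q : ℕ} {hF : Fintype.card F = q ^ 2}

local notation "σ" => Forms.qEnd hF

namespace Hyp

variable {Q : Type*} [Group Q] {m : SL(2, F) →* Q} {s : Q} (H : Hyp hF m s)
include H

/-- The generators of the Borel subgroup. -/
def bgen : Set Q :=
  Set.range (ux m) ∪ Set.range H.xb ∪ Set.range (cx m s) ∪ Set.range H.xd ∪ Set.range (dx m) ∪
    Set.range (lx m s)

theorem bgen_inv (g : Q) (hg : g ∈ H.bgen) : g⁻¹ ∈ H.bgen := by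
  rcases hg with ((((⟨t, rfl⟩ | ⟨t, rfl⟩) | ⟨t, rfl⟩) | ⟨t, rfl⟩) | ⟨t, rfl⟩) | ⟨t, rfl⟩
  · exact Or.inl (Or.inl (Or.inl (Or.inl (Or.inl ⟨-t, ux_neg t⟩))))
  · exact Or.inl (Or.inl (Or.inl (Or.inl (Or.inr ⟨-t, H.xb_neg t⟩))))
  · exact Or.inl (Or.inl (Or.inl (Or.inr ⟨-t, cx_neg t⟩)))
  · exact Or.inl (Or.inl (Or.inr ⟨-t, H.xd_neg t⟩))
  · exact Or.inl (Or.inr ⟨t⁻¹, dx_inv t⟩)
  · exact Or.inr ⟨t⁻¹, H.lx_inv t⟩

/-- The Borel subgroup. -/
def borel : Subgroup Q := Subgroup.closure H.bgen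

theorem mem_u (t : F) : ux m t ∈ H.borel :=
  Subgroup.subset_closure (Or.inl (Or.inl (Or.inl (Or.inl (Or.inl ⟨t, rfl⟩)))))

theorem mem_b (t : Fix hF) : H.xb t ∈ H.borel :=
  Subgroup.subset_closure (Or.inl (Or.inl (Or.inl (Or.inl (Or.inr ⟨t, rfl⟩)))))

theorem mem_c (t : F) : cx m s t ∈ H.borel :=
  Subgroup.subset_closure (Or.inl (Or.inl (Or.inl (Or.inr ⟨t, rfl⟩))))

theorem mem_d (t : Fix hF) : H.xd t ∈ H.borel :=
  Subgroup.subset_closure (Or.inl (Or.inl (Or.inr ⟨t, rfl⟩)))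

theorem mem_t (a : Fˣ) : dx m a ∈ H.borel := Subgroup.subset_closure (Or.inl (Or.inr ⟨a, rfl⟩))

theorem mem_l (a : Fˣ) : lx m s a ∈ H.borel := Subgroup.subset_closure (Or.inr ⟨a, rfl⟩)

theorem cu (t v : F) :
    cx m s v * ux m t = ux m t * (cx m s v * H.xd (tr hF (-t * σ v))) := by
  have h := H.rel_ac (-t) v
  rw [ux_neg] at h
  rw [← inv_mul_eq_iff_eq_mul, ← mul_assoc, h, inv_mul_cancel_right]

theorem bu (t : F) (r : Fix hF) :
    H.xb r * ux m t = ux m t * (H.xb r * cx m s (-t * r) * H.xd (nm hF (-t) * r)) := by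
  have h := H.rel_ab (-t) r
  rw [ux_neg] at h
  rw [← inv_mul_eq_iff_eq_mul, ← mul_assoc, h, inv_mul_cancel_right]

/-- Normal forms in the Borel subgroup. -/
noncomputable def bmap (p : (F × Fix hF × F × Fix hF) × Fˣ × (Fix hF)ˣ) : Q :=
  ux m p.1.1 * H.xb p.1.2.1 * cx m s p.1.2.2.1 * H.xd p.1.2.2.2 *
    (dx m p.2.1 * lx m s (exists_nm hF (p.2.2 : Fix hF) p.2.2.ne_zero).choose)

theorem borel_eq : (H.borel : Set Q) ⊆ Set.range H.bmap := by
  set ell : (Fix hF)ˣ → Q := fun r => lx m s (exists_nm hF (r : Fix hF) r.ne_zero).choose with hell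
  have ell_eq : ∀ (b : Fˣ) (r : (Fix hF)ˣ), nm hF (b : F) = (r : Fix hF) → lx m s b = ell r := fun b r h =>
    H.lx_congr (h.trans (exists_nm hF (r : Fix hF) r.ne_zero).choose_spec.symm)
  have hone : (1 : Q) ∈ Set.range H.bmap := by
    refine ⟨((0, 0, 0, 0), 1, 1), ?_⟩
    have e := ell_eq 1 1 (by simp)
    simp only [hell] at e
    simp [bmap, ← e, ux_zero, H.xb_zero, cx_zero, H.xd_zero, dx_one, H.lx_one]
  have bc : ∀ r v, cx m s v * H.xb r = H.xb r * cx m s v := fun r v => (H.rel_bc r v).symm.eq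
  have bd : ∀ r r', H.xd r' * H.xb r = H.xb r * H.xd r' := fun r r' => (H.rel_bd r r').symm.eq
  have cd : ∀ v r', H.xd r' * cx m s v = cx m s v * H.xd r' := fun v r' => (H.rel_cd v r').symm.eq
  have step : ∀ g ∈ H.bgen, ∀ y ∈ Set.range H.bmap, g * y ∈ Set.range H.bmap := by
    rintro g hg _ ⟨⟨⟨t, u, v, w⟩, a, b⟩, rfl⟩
    rcases hg with ((((⟨x, rfl⟩ | ⟨x, rfl⟩) | ⟨x, rfl⟩) | ⟨x, rfl⟩) | ⟨x, rfl⟩) | ⟨x, rfl⟩
    · exact ⟨((x + t, u, v, w), a, b), by simp [bmap, ux_add, mul_assoc]⟩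
    · refine ⟨((t, x + u, -t * x + v, nm hF (-t) * x + w), a, b), ?_⟩
      simp only [bmap, H.xb_add, cx_add, H.xd_add, ← mul_assoc]
      rw [H.bu t x]
      simp only [← mul_assoc]
      rw [mul_assoc _ (H.xd (nm hF (-t) * x)) (H.xb u), bd, ← mul_assoc,
        mul_assoc _ (H.xd (nm hF (-t) * x)) (cx m s v), cd, ← mul_assoc,
        mul_assoc _ (cx m s (-t * (x : F))) (H.xb u), bc, ← mul_assoc]
    · refine ⟨((t, u, x + v, tr hF (-t * σ x) + w), a, b), ?_⟩
      simp only [bmap, cx_add, H.xd_add, ← mul_assoc]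
      rw [H.cu t x]
      simp only [← mul_assoc]
      rw [mul_assoc _ (H.xd _) (H.xb u), bd, ← mul_assoc, mul_assoc _ (H.xd (tr hF (-t * σ x))) (cx m s v), cd,
        ← mul_assoc, mul_assoc _ (cx m s x) (H.xb u), bc, ← mul_assoc]
    · refine ⟨((t, u, v, x + w), a, b), ?_⟩
      simp only [bmap, H.xd_add, ← mul_assoc]
      rw [← (H.rel_ad t x).eq, mul_assoc _ (H.xd x) (H.xb u), bd, ← mul_assoc,
        mul_assoc _ (H.xd x) (cx m s v), cd, ← mul_assoc]
    · refine ⟨(((x : F) ^ 2 * t, (nm hF (x : F))⁻¹ * u, (rU hF x : F) * v, nm hF (x : F) * w), x * a, b), ?_⟩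
      simp only [bmap]
      rw [show ∀ x1 x2 x3 x4 x5 x6 g : Q, g * (x1 * x2 * x3 * x4 * (x5 * x6)) =
          g * x1 * g⁻¹ * (g * x2 * g⁻¹) * (g * x3 * g⁻¹) * (g * x4 * g⁻¹) * (g * x5 * x6) from
        fun x1 x2 x3 x4 x5 x6 g => by group, dx_u, H.dx_xb, H.dx_c, H.dx_xd, dx_mul]
    · refine ⟨(((((nm hF (x : F))⁻¹ : Fix hF) : F) * t, nm hF (x : F) ^ 2 * u, (nm hF (x : F) : F) * v, w),
        a, Units.mk0 (nm hF (x : F)) (nm_units hF x) * b), ?_⟩
      simp only [bmap]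
      rw [show ∀ x1 x2 x3 x4 x5 x6 g : Q, g * (x1 * x2 * x3 * x4 * (x5 * x6)) =
          g * x1 * g⁻¹ * (g * x2 * g⁻¹) * (g * x3 * g⁻¹) * (g * x4 * g⁻¹) * (g * x5 * x6) from
        fun x1 x2 x3 x4 x5 x6 g => by group, H.lx_u, H.lx_xb, H.lx_c, H.lx_xd, lU_inv, lU_val]
      congr 1
      rw [← (H.dx_lx a x).eq, mul_assoc, ← H.lx_mul]
      congr 1
      refine (ell_eq _ _ ?_).symm
      rw [Units.val_mul, Units.val_mul, map_mul, Units.val_mk0]
      rw [(exists_nm hF (b : Fix hF) b.ne_zero).choose_spec]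
  intro g hg
  suffices ∀ y ∈ Set.range H.bmap, g * y ∈ Set.range H.bmap by simpa using this 1 hone
  refine Subgroup.closure_induction'' (p := fun g _ => ∀ y ∈ Set.range H.bmap,
    g * y ∈ Set.range H.bmap) (fun x hx => step x hx) (fun x hx => step _ (H.bgen_inv x hx))
    (fun y hy => by simpa using hy) (fun x z _ _ hx hz y hy => ?_) hg
  rw [mul_assoc]
  exact hx _ (hz _ hy)

theorem card_borel : Finite H.borel ∧ Nat.card H.borel ≤ q ^ 6 * (q ^ 2 - 1) * (q - 1) := by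
  classical
  have hsub := H.borel_eq
  have hfin : (H.borel : Set Q).Finite := (Set.finite_range _).subset hsub
  refine ⟨hfin.to_subtype, ?_⟩
  calc Nat.card H.borel = (H.borel : Set Q).ncard := (Nat.card_coe_set_eq _)
    _ ≤ (Set.range H.bmap).ncard := Set.ncard_le_ncard hsub (Set.finite_range _)
    _ ≤ Nat.card ((F × Fix hF × F × Fix hF) × Fˣ × (Fix hF)ˣ) := by
      rw [← Set.image_univ, ← Set.ncard_univ]
      exact Set.ncard_image_le
    _ = _ := by
      simp only [Nat.card_eq_fintype_card, Fintype.card_prod, Fintype.card_units, card_Fix, hF]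
      ring

/-- The root group of a letter. -/
def root : Bool → Set Q
  | true => Set.range H.xb
  | false => Set.range (ux m)

/-- The Weyl element of a letter. -/
def nn (_H : Hyp hF m s) : Bool → Q
  | true => s
  | false => wx m

theorem root_le (i : Bool) : H.root i ⊆ H.borel := by
  cases i <;> rintro _ ⟨t, rfl⟩
  exacts [H.mem_u t, H.mem_b t]

theorem one_root (i : Bool) : (1 : Q) ∈ H.root i := by
  cases i
  exacts [⟨0, ux_zero⟩, ⟨0, H.xb_zero⟩]

theorem move_of {i : Bool} {g x x' r : Q} (hx' : x' ∈ H.root i) (h : g * x = x' * r)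
    (hr : (H.nn i)⁻¹ * r * H.nn i ∈ H.borel) :
    ∃ x' ∈ H.root i, ∃ b' ∈ H.borel, g * (x * H.nn i) = x' * H.nn i * b' :=
  ⟨x', hx', _, hr, by rw [← mul_assoc, h]; group⟩

theorem move_gen (i : Bool) (g : Q) (hg : g ∈ H.bgen) (x : Q) (hx : x ∈ H.root i) :
    ∃ x' ∈ H.root i, ∃ b' ∈ H.borel, g * (x * H.nn i) = x' * H.nn i * b' := by
  have cS : ∀ r, s⁻¹ * cx m s r * s = ux m (-r) := fun r => inv_conj (by rw [s_u, neg_neg])
  have dS : ∀ r, s⁻¹ * H.xd r * s = H.xd r := fun r => inv_conj (H.s_xd r)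
  have uS : ∀ r, s⁻¹ * ux m r * s = cx m s r := fun r => inv_conj (H.s_c r)
  have bW : ∀ r, (wx m)⁻¹ * H.xb r * wx m = H.xd r := fun r => inv_conj (H.w_xd r)
  have cW : ∀ r, (wx m)⁻¹ * cx m s r * wx m = cx m s (-σ r) := fun r =>
    inv_conj (by rw [H.w_c, map_neg, σσ, neg_neg])
  have dW : ∀ r, (wx m)⁻¹ * H.xd r * wx m = H.xb r := fun r => rfl
  have torus : (∀ a : Fˣ, (H.nn i)⁻¹ * dx m a * H.nn i ∈ H.borel) ∧
      ∀ a : Fˣ, (H.nn i)⁻¹ * lx m s a * H.nn i ∈ H.borel := by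
    cases i
    · have hd : ∀ a, (wx m)⁻¹ * dx m a * wx m = dx m a⁻¹ := fun a => inv_conj (by rw [wx_dx, inv_inv])
      have hy : ∀ a, (wx m)⁻¹ * dy m s a * wx m = dx m (rU hF a)⁻¹ * dy m s a := fun a =>
        inv_conj (by rw [cj_mul, wx_dx, inv_inv, H.wx_dy, ← mul_assoc, ← dx_mul, mul_inv_cancel, dx_one, one_mul])
      refine ⟨fun a => ?_, fun a => ?_⟩
      · show (wx m)⁻¹ * _ * wx m ∈ _
        rw [hd]; exact H.mem_t _
      · show (wx m)⁻¹ * _ * wx m ∈ _
        rw [lx, show ∀ n x y : Q, n⁻¹ * (x * y) * n = n⁻¹ * x * n * (n⁻¹ * y * n) from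
          fun n x y => by group, ← dx_inv, hd, hy, dy_eq]
        exact mul_mem (H.mem_t _) (mul_mem (H.mem_t _) (mul_mem (H.mem_t _) (H.mem_l _)))
    · refine ⟨fun a => ?_, fun a => ?_⟩
      · show s⁻¹ * _ * s ∈ _
        rw [H.s_dx, dy_eq]; exact mul_mem (H.mem_t _) (H.mem_l _)
      · show s⁻¹ * _ * s ∈ _
        rw [lx, show ∀ n x y : Q, n⁻¹ * (x * y) * n = n⁻¹ * x * n * (n⁻¹ * y * n) from
          fun n x y => by group, ← dx_inv, H.s_dx, show s⁻¹ * dy m s a * s = dx m a by simp only [dy]; group,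
          dy_eq]
        exact mul_mem (mul_mem (H.mem_t _) (H.mem_l _)) (H.mem_t _)
  rcases hg with ((((⟨y, rfl⟩ | ⟨y, rfl⟩) | ⟨y, rfl⟩) | ⟨y, rfl⟩) | ⟨y, rfl⟩) | ⟨y, rfl⟩
  · cases i
    · obtain ⟨t, rfl⟩ := hx
      exact ⟨_, ⟨y + t, rfl⟩, 1, one_mem _, by show _ = ux m (y + t) * _ * 1; rw [ux_add, mul_one, ← mul_assoc]⟩
    · obtain ⟨t, rfl⟩ := hx
      refine H.move_of ⟨t, rfl⟩ (r := cx m s (y * t) * H.xd (nm hF y * t) * ux m y) ?_ ?_
      · rw [H.rel_ab y t]; simp only [mul_assoc]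
      · show s⁻¹ * _ * s ∈ _
        rw [show ∀ n x y z : Q, n⁻¹ * (x * y * z) * n = n⁻¹ * x * n * (n⁻¹ * y * n) * (n⁻¹ * z * n) from
          fun n x y z => by group, cS, dS, uS]
        exact mul_mem (mul_mem (H.mem_u _) (H.mem_d _)) (H.mem_c _)
  · cases i
    · obtain ⟨t, rfl⟩ := hx
      refine H.move_of ⟨t, rfl⟩ (H.bu t y) ?_
      show (wx m)⁻¹ * _ * wx m ∈ _
      rw [show ∀ n x y z : Q, n⁻¹ * (x * y * z) * n = n⁻¹ * x * n * (n⁻¹ * y * n) * (n⁻¹ * z * n) from
        fun n x y z => by group, bW, cW, dW]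
      exact mul_mem (mul_mem (H.mem_d _) (H.mem_c _)) (H.mem_b _)
    · obtain ⟨t, rfl⟩ := hx
      exact ⟨_, ⟨y + t, rfl⟩, 1, one_mem _, by show _ = H.xb (y + t) * _ * 1; rw [H.xb_add, mul_one, ← mul_assoc]⟩
  · cases i
    · obtain ⟨t, rfl⟩ := hx
      refine H.move_of ⟨t, rfl⟩ (H.cu t y) ?_
      show (wx m)⁻¹ * _ * wx m ∈ _
      rw [show ∀ n x y : Q, n⁻¹ * (x * y) * n = n⁻¹ * x * n * (n⁻¹ * y * n) from
        fun n x y => by group, cW, dW]
      exact mul_mem (H.mem_c _) (H.mem_b _)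
    · obtain ⟨t, rfl⟩ := hx
      refine H.move_of ⟨t, rfl⟩ (H.rel_bc t y).symm.eq ?_
      show s⁻¹ * _ * s ∈ _
      rw [cS]; exact H.mem_u _
  · cases i
    · obtain ⟨t, rfl⟩ := hx
      refine H.move_of ⟨t, rfl⟩ (H.rel_ad t y).symm.eq ?_
      show (wx m)⁻¹ * _ * wx m ∈ _
      rw [dW]; exact H.mem_b _
    · obtain ⟨t, rfl⟩ := hx
      refine H.move_of ⟨t, rfl⟩ (H.rel_bd t y).symm.eq ?_
      show s⁻¹ * _ * s ∈ _
      rw [dS]; exact H.mem_d _
  · cases i
    · obtain ⟨t, rfl⟩ := hx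
      exact H.move_of ⟨_, rfl⟩ (mul_inv_eq_iff_eq_mul.1 (dx_u (m := m) y t)) (torus.1 y)
    · obtain ⟨t, rfl⟩ := hx
      exact H.move_of ⟨_, rfl⟩ (mul_inv_eq_iff_eq_mul.1 (H.dx_xb y t)) (torus.1 y)
  · cases i
    · obtain ⟨t, rfl⟩ := hx
      exact H.move_of ⟨_, rfl⟩ (mul_inv_eq_iff_eq_mul.1 (H.lx_u y t)) (torus.2 y)
    · obtain ⟨t, rfl⟩ := hx
      exact H.move_of ⟨_, rfl⟩ (mul_inv_eq_iff_eq_mul.1 (H.lx_xb y t)) (torus.2 y)

/-- The cell of a word, as cosets of the Borel subgroup. -/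
def cell : List Bool → Set (Q ⧸ H.borel)
  | [] => {QuotientGroup.mk 1}
  | i :: w => Set.image2 (fun x z => (x * H.nn i) • z) (H.root i) (cell w)

theorem cell_smul (w : List Bool) : ∀ b ∈ H.borel, ∀ z ∈ H.cell w, b • z ∈ H.cell w := by
  induction w with
  | nil =>
    rintro b hb z rfl
    show QuotientGroup.mk (b * 1) = (QuotientGroup.mk 1 : Q ⧸ H.borel)
    rw [mul_one, QuotientGroup.eq, mul_one]
    exact inv_mem hb
  | cons i w ih =>
    have key : ∀ b ∈ H.borel, ∀ x ∈ H.root i, ∃ x' ∈ H.root i, ∃ b' ∈ H.borel,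
        b * (x * H.nn i) = x' * H.nn i * b' := by
      intro b hb
      refine Subgroup.closure_induction'' (p := fun b _ => ∀ x ∈ H.root i, ∃ x' ∈ H.root i, ∃ b' ∈ H.borel,
        b * (x * H.nn i) = x' * H.nn i * b')
        (fun g hg => H.move_gen i g hg) (fun g hg => H.move_gen i _ (H.bgen_inv g hg))
        (fun x hx => ⟨x, hx, 1, one_mem _, by simp⟩)
        (fun a c _ _ ha hc x hx => ?_) hb
      obtain ⟨x1, hx1, b1, hb1, e1⟩ := hc x hx
      obtain ⟨x2, hx2, b2, hb2, e2⟩ := ha x1 hx1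
      exact ⟨x2, hx2, b2 * b1, mul_mem hb2 hb1, by rw [mul_assoc a, e1, ← mul_assoc a, e2, mul_assoc]⟩
    rintro b hb z ⟨x, hx, z', hz', rfl⟩
    obtain ⟨x', hx', b', hb', e⟩ := key b hb x hx
    refine ⟨x', hx', b' • z', ih b' hb' z' hz', ?_⟩
    show (x' * H.nn i) • b' • z' = b • (x * H.nn i) • z'
    rw [smul_smul, smul_smul, ← e]

/-- The eight reduced words. -/
def words : List (List Bool) :=
  [[], [true], [false], [true, false], [false, true], [true, false, true], [false, true, false],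
    [true, false, true, false]]

theorem nn_sq_mem (i : Bool) : H.nn i * H.nn i ∈ H.borel := by
  cases i
  · show wx m * wx m ∈ _
    rw [wx_sq]; exact H.mem_t _
  · show s * s ∈ _
    rw [H.s_sq]; exact H.mem_l _

theorem nn_cell_cons (i : Bool) {w : List Bool} {z : Q ⧸ H.borel} (hz : z ∈ H.cell w) :
    H.nn i • z ∈ H.cell (i :: w) := ⟨1, H.one_root i, z, hz, by simp⟩

theorem nn_cell_self (i : Bool) {w : List Bool} {z : Q ⧸ H.borel} (hz : z ∈ H.cell (i :: w)) :
    H.nn i • z ∈ H.cell w ∨ H.nn i • z ∈ H.cell (i :: w) := by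
  obtain ⟨x, hx, z', hz', rfl⟩ := hz
  show H.nn i • (x * H.nn i) • z' ∈ _ ∨ _
  have main : x = 1 ∨ ∃ x' ∈ H.root i, ∃ d ∈ H.borel, H.nn i * (x * H.nn i) = x' * H.nn i * d := by
    cases i
    · obtain ⟨t, rfl⟩ := hx
      rcases eq_or_ne t 0 with rfl | ht
      · exact Or.inl ux_zero
      · refine Or.inr ⟨_, ⟨-t⁻¹, rfl⟩, ux m (-t) * dx m (Units.mk0 (-t) (neg_ne_zero.2 ht)),
          mul_mem (H.mem_u _) (H.mem_t _), ?_⟩
        show wx m * (ux m t * wx m) = ux m (-t⁻¹) * wx m * _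
        simp only [wx, ux, dx, ← map_mul, ← mul_assoc, tL_uL_tL t ht]
    · obtain ⟨t, rfl⟩ := hx
      rcases eq_or_ne t 0 with rfl | ht
      · exact Or.inl H.xb_zero
      · obtain ⟨h, a, b, rfl, e⟩ := H.s_xb_s t ht
        refine Or.inr ⟨_, ⟨-t⁻¹, rfl⟩, H.xb (-t) * (dx m a * lx m s b),
          mul_mem (H.mem_b _) (mul_mem (H.mem_t _) (H.mem_l _)), ?_⟩
        show s * (H.xb t * s) = H.xb (-t⁻¹) * s * _
        simp only [← mul_assoc] at e ⊢
        exact e
  rcases main with rfl | ⟨x', hx', d, hd, e⟩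
  · left
    rw [smul_smul, one_mul]
    exact H.cell_smul w _ (H.nn_sq_mem i) z' hz'
  · right
    refine ⟨x', hx', d • z', H.cell_smul w d hd z' hz', ?_⟩
    show (x' * H.nn i) • d • z' = _
    rw [smul_smul, smul_smul, e]

/-- The two words of the longest element give the same cell. -/
theorem long_le_s {z : Q ⧸ H.borel} (hz : z ∈ H.cell [true, false, true, false]) :
    z ∈ H.cell [false, true, false, true] := by
  obtain ⟨_, ⟨t1, rfl⟩, _, ⟨_, ⟨t2, rfl⟩, _, ⟨_, ⟨t3, rfl⟩, _, ⟨_, ⟨t4, rfl⟩, _, rfl, rfl⟩, rfl⟩, rfl⟩, rfl⟩ := hz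
  have c1 := s_u (m := m) (s := s) t2
  have c2 : s * wx m * H.xb t3 * (s * wx m)⁻¹ = H.xd t3 := by rw [cj_cj, H.w_xb, H.s_xd]
  have c3 : s * wx m * s * ux m t4 * (s * wx m * s)⁻¹ = ux m (σ t4) := by
    rw [cj_cj, s_u, cj_cj, H.w_c, map_neg, neg_neg, H.s_c]
  have hb : H.xb t1 * cx m s (-t2) * H.xd t3 * ux m (σ t4) ∈ H.borel :=
    mul_mem (mul_mem (mul_mem (H.mem_b _) (H.mem_c _)) (H.mem_d _)) (H.mem_u _)
  have hN : ((wx m * s * wx m * s) • (QuotientGroup.mk 1 : Q ⧸ H.borel)) ∈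
      H.cell [false, true, false, true] := by
    rw [← smul_smul, ← smul_smul, ← smul_smul]
    exact H.nn_cell_cons false (H.nn_cell_cons true (H.nn_cell_cons false (H.nn_cell_cons true rfl)))
  have := H.cell_smul _ _ hb _ hN
  rw [smul_smul, ← H.braid, ← c1, ← c2, ← c3] at this
  convert this using 1
  simp only [nn, smul_smul]
  congr 1
  group

/-- The two words of the longest element give the same cell. -/
theorem long_le_m {z : Q ⧸ H.borel} (hz : z ∈ H.cell [false, true, false, true]) :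
    z ∈ H.cell [true, false, true, false] := by
  obtain ⟨_, ⟨t1, rfl⟩, _, ⟨_, ⟨t2, rfl⟩, _, ⟨_, ⟨t3, rfl⟩, _, ⟨_, ⟨t4, rfl⟩, _, rfl, rfl⟩, rfl⟩, rfl⟩, rfl⟩ := hz
  have c1 := H.w_xb t2
  have c2 : wx m * s * ux m t3 * (wx m * s)⁻¹ = cx m s (σ t3) := by
    rw [cj_cj, s_u, H.w_c, map_neg, neg_neg]
  have c3 : wx m * s * wx m * H.xb t4 * (wx m * s * wx m)⁻¹ = H.xb t4 := by
    rw [cj_cj, H.w_xb, cj_cj, H.s_xd, H.w_xd]
  have hb : ux m t1 * H.xd t2 * cx m s (σ t3) * H.xb t4 ∈ H.borel :=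
    mul_mem (mul_mem (mul_mem (H.mem_u _) (H.mem_d _)) (H.mem_c _)) (H.mem_b _)
  have hN : ((s * wx m * s * wx m) • (QuotientGroup.mk 1 : Q ⧸ H.borel)) ∈
      H.cell [true, false, true, false] := by
    rw [← smul_smul, ← smul_smul, ← smul_smul]
    exact H.nn_cell_cons true (H.nn_cell_cons false (H.nn_cell_cons true (H.nn_cell_cons false rfl)))
  have := H.cell_smul _ _ hb _ hN
  rw [smul_smul, H.braid, ← c1, ← c2, ← c3] at this
  convert this using 1
  simp only [nn, smul_smul]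
  congr 1
  group

/-- The union of the eight cells. -/
def total : Set (Q ⧸ H.borel) := {z | ∃ w ∈ words, z ∈ H.cell w}

theorem nn_total (i : Bool) {z : Q ⧸ H.borel} (hz : z ∈ H.total) : H.nn i • z ∈ H.total := by
  obtain ⟨w, hw, hzw⟩ := hz
  have cons : ∀ v, (i :: v) ∈ words → z ∈ H.cell v → H.nn i • z ∈ H.total := fun v hv hzv =>
    ⟨_, hv, H.nn_cell_cons i hzv⟩
  have self : ∀ v, (i :: v) ∈ words → v ∈ words → z ∈ H.cell (i :: v) → H.nn i • z ∈ H.total := by
    intro v h1 h2 h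
    rcases H.nn_cell_self i h with h | h
    · exact ⟨_, h2, h⟩
    · exact ⟨_, h1, h⟩
  have lm : ∀ {y : Q ⧸ H.borel}, y ∈ H.cell [false, true, false, true] → y ∈ H.total :=
    fun hy => ⟨_, by simp [words], H.long_le_m hy⟩
  simp only [words, List.mem_cons, List.not_mem_nil, or_false] at hw
  cases i
  · rcases hw with rfl | rfl | rfl | rfl | rfl | rfl | rfl | rfl
    · exact cons _ (by simp [words]) hzw
    · exact cons _ (by simp [words]) hzw
    · exact self _ (by simp [words]) (by simp [words]) hzw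
    · exact cons _ (by simp [words]) hzw
    · exact self _ (by simp [words]) (by simp [words]) hzw
    · exact lm (H.nn_cell_cons false hzw)
    · exact self _ (by simp [words]) (by simp [words]) hzw
    · rcases H.nn_cell_self false (H.long_le_s hzw) with h | h
      · exact ⟨_, by simp [words], h⟩
      · exact lm h
  · rcases hw with rfl | rfl | rfl | rfl | rfl | rfl | rfl | rfl
    · exact cons _ (by simp [words]) hzw
    · exact self _ (by simp [words]) (by simp [words]) hzw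
    · exact cons _ (by simp [words]) hzw
    · exact self _ (by simp [words]) (by simp [words]) hzw
    · exact cons _ (by simp [words]) hzw
    · exact self _ (by simp [words]) (by simp [words]) hzw
    · exact cons _ (by simp [words]) hzw
    · exact self _ (by simp [words]) (by simp [words]) hzw

/-- The number of elements of the root group of a letter. -/
def rsize (q : ℕ) : Bool → ℕ
  | true => q
  | false => q ^ 2

theorem cell_card (w : List Bool) :
    (H.cell w).Finite ∧ (H.cell w).ncard ≤ (w.map (rsize q)).prod := by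
  induction w with
  | nil => exact ⟨Set.finite_singleton _, by simp [cell]⟩
  | cons i w ih =>
    have e : H.cell (i :: w) = (fun p : Q × (Q ⧸ H.borel) => (p.1 * H.nn i) • p.2) '' H.root i ×ˢ H.cell w :=
      (Set.image_prod _).symm
    have hr : (H.root i).Finite ∧ (H.root i).ncard ≤ rsize q i := by
      cases i
      · refine ⟨Set.finite_range _, ?_⟩
        show (Set.range (ux m)).ncard ≤ q ^ 2
        rw [← Set.image_univ, ← hF, ← Nat.card_eq_fintype_card, ← Set.ncard_univ]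
        exact Set.ncard_image_le
      · refine ⟨Set.finite_range _, ?_⟩
        show (Set.range H.xb).ncard ≤ q
        rw [← Set.image_univ]
        exact (Set.ncard_image_le Set.finite_univ).trans (by rw [Set.ncard_univ, Nat.card_eq_fintype_card, card_Fix])
    refine ⟨e ▸ (hr.1.prod ih.1).image _, e ▸ (Set.ncard_image_le (hr.1.prod ih.1)).trans ?_⟩
    rw [Set.ncard_prod, List.map_cons, List.prod_cons]
    exact Nat.mul_le_mul hr.2 ih.2

/-- The order bound. -/
theorem bound (hgen : ∀ K : Subgroup Q, m.range ≤ K → s ∈ K → K = ⊤) :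
    Finite Q ∧ Nat.card Q ≤ q ^ 6 * (q ^ 2 - 1) * (q - 1) *
      ((1 + q + q ^ 2 + q ^ 3) * (1 + q ^ 3)) := by
  have hok : ∀ g : Q, ∀ z ∈ H.total, g • z ∈ H.total := by
    set K : Subgroup Q :=
      { carrier := {g | ∀ z ∈ H.total, g • z ∈ H.total ∧ g⁻¹ • z ∈ H.total}
        one_mem' := fun z hz => by simp [hz]
        mul_mem' := fun {a b} ha hb z hz => by
          refine ⟨?_, ?_⟩
          · rw [← smul_smul]; exact (ha _ (hb z hz).1).1
          · rw [_root_.mul_inv_rev, ← smul_smul]; exact (hb _ (ha z hz).2).2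
        inv_mem' := fun {a} ha z hz => by rw [inv_inv]; exact ⟨(ha z hz).2, (ha z hz).1⟩ }
    have hB : H.borel ≤ K := fun b hb z hz => by
      obtain ⟨w, hw, hzw⟩ := hz
      exact ⟨⟨w, hw, H.cell_smul w b hb z hzw⟩, ⟨w, hw, H.cell_smul w _ (inv_mem hb) z hzw⟩⟩
    have hn : ∀ i, H.nn i ∈ K := fun i z hz => by
      refine ⟨H.nn_total i hz, ?_⟩
      rw [show (H.nn i)⁻¹ = H.nn i * (H.nn i * H.nn i)⁻¹ by group, ← smul_smul]
      obtain ⟨w, hw, hzw⟩ := hz
      exact H.nn_total i ⟨w, hw, H.cell_smul w _ (inv_mem (H.nn_sq_mem i)) z hzw⟩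
    have hm : m.range ≤ K := by
      rintro _ ⟨g, rfl⟩
      have : K.comap m = ⊤ := closure_eq_top H.ω H.hω _ (fun x => hB (H.mem_u x)) (hB (H.mem_t _)) (hn false)
      exact (show g ∈ K.comap m from this ▸ Subgroup.mem_top g)
    have htop := hgen K hm (hn true)
    intro g z hz
    exact ((show g ∈ K from htop ▸ Subgroup.mem_top g) z hz).1
  have htot : H.total = Set.univ := by
    refine Set.eq_univ_of_forall fun z => ?_
    obtain ⟨g, rfl⟩ := QuotientGroup.mk_surjective z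
    have := hok g (QuotientGroup.mk 1) ⟨[], by simp [words], rfl⟩
    simpa using this
  obtain ⟨hBfin, hBle⟩ := H.card_borel
  have hsub : (Set.univ : Set (Q ⧸ H.borel)) ⊆ H.cell [] ∪ H.cell [true] ∪ H.cell [false] ∪
      H.cell [true, false] ∪ H.cell [false, true] ∪ H.cell [true, false, true] ∪
      H.cell [false, true, false] ∪ H.cell [true, false, true, false] := by
    rw [← htot]
    rintro z ⟨w, hw, hz⟩
    simp only [words, List.mem_cons, List.not_mem_nil, or_false] at hw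
    rcases hw with rfl | rfl | rfl | rfl | rfl | rfl | rfl | rfl <;> simp [hz]
  have c := fun w => H.cell_card w
  have hfinU := (((((((c []).1.union (c [true]).1).union (c [false]).1).union (c [true, false]).1).union
    (c [false, true]).1).union (c [true, false, true]).1).union (c [false, true, false]).1).union
    (c [true, false, true, false]).1
  have hQfin : Finite (Q ⧸ H.borel) := Set.finite_univ_iff.1 (hfinU.subset hsub)
  have hcard : Nat.card (Q ⧸ H.borel) ≤ (1 + q + q ^ 2 + q ^ 3) * (1 + q ^ 3) := by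
    rw [← Set.ncard_univ]
    refine (Set.ncard_le_ncard hsub hfinU).trans ?_
    have h0 := (c []).2; have h1 := (c [true]).2; have h2 := (c [false]).2; have h3 := (c [true, false]).2
    have h4 := (c [false, true]).2; have h5 := (c [true, false, true]).2
    have h6 := (c [false, true, false]).2; have h7 := (c [true, false, true, false]).2
    simp only [List.map_cons, List.map_nil, List.prod_cons, List.prod_nil, rsize, mul_one] at h0 h1 h2 h3 h4 h5 h6 h7
    refine le_trans (Set.ncard_union_le _ _ |>.trans (Nat.add_le_add_right (Set.ncard_union_le _ _ |>.trans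
      (Nat.add_le_add_right (Set.ncard_union_le _ _ |>.trans (Nat.add_le_add_right (Set.ncard_union_le _ _ |>.trans
      (Nat.add_le_add_right (Set.ncard_union_le _ _ |>.trans (Nat.add_le_add_right (Set.ncard_union_le _ _ |>.trans
      (Nat.add_le_add_right (Set.ncard_union_le _ _) _)) _)) _)) _)) _)) _)) ?_
    nlinarith [h0, h1, h2, h3, h4, h5, h6, h7]
  have hfin : Finite Q := Finite.of_equiv _ (Subgroup.groupEquivQuotientProdSubgroup (s := H.borel)).symm
  refine ⟨hfin, ?_⟩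
  rw [Subgroup.card_eq_card_quotient_mul_card_subgroup H.borel, mul_comm]
  exact Nat.mul_le_mul hBle hcard

end Hyp

end Cfsg.Agent.SU4Presentation
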