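/-
The unitary group of a skew-hermitian hyperbolic form in dimension four and its two standard
elements; they satisfy the relators.
-/
import Cfsg.Agent.Lib.SU4Presentation.Rels

set_option autoImplicit false
set_option linter.unusedSectionVars false
set_option linter.unusedSimpArgs false
set_option linter.unnecessarySeqFocus false

namespace Cfsg.Agent.SU4Presentation

open Matrix SL2Presentation Cfsg.Agent.BoundedPres
open scoped MatrixGroups

variable {F : Type*} [Field F] [Fintype F] {q : ℕ} (hF : Fintype.card F = q ^ 2)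

local notation "σ" => Forms.qEnd hF
local notation "ι" => Fin 2 ⊕ Fin 2
local notation "M4" => Matrix (Fin 2 ⊕ Fin 2) (Fin 2 ⊕ Fin 2) F

/-- The hyperbolic skew form. -/
def Jm : M4 := fromBlocks 0 1 (-1) 0

/-- Its special isometry group. -/
def SUJ : Subgroup (Matrix.SpecialLinearGroup ι F) where
  carrier := {g | g.1ᵀ * Jm * g.1.map σ = Jm}
  one_mem' := by simp [Jm]
  mul_mem' {a b} (ha : _ = Jm) (hb : _ = Jm) := by
    show (a.1 * b.1)ᵀ * Jm * (a.1 * b.1).map σ = Jm
    rw [transpose_mul, Matrix.map_mul]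
    calc b.1ᵀ * a.1ᵀ * Jm * (a.1.map σ * b.1.map σ) = b.1ᵀ * (a.1ᵀ * Jm * a.1.map σ) * b.1.map σ := by
          simp only [mul_assoc]
      _ = _ := by rw [ha, hb]
  inv_mem' {a} (ha : _ = Jm) := by
    have key : ∀ b : M4, a.1 * b = 1 → bᵀ * Jm * b.map σ = Jm := fun b h1 => by
      calc bᵀ * Jm * b.map σ = bᵀ * (a.1ᵀ * Jm * a.1.map σ) * b.map σ := by rw [ha]
        _ = (a.1 * b)ᵀ * Jm * (a.1 * b).map σ := by simp only [transpose_mul, Matrix.map_mul, mul_assoc]
        _ = _ := by simp [h1]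
    exact key _ (congrArg Subtype.val (mul_inv_cancel a))

theorem mulJ (a b : SUJ hF) : ((a * b : SUJ hF).1.1 : M4) = a.1.1 * b.1.1 := rfl

theorem oneJ : ((1 : SUJ hF).1.1 : M4) = 1 := rfl

theorem extJ {a b : SUJ hF} (h : (a.1.1 : M4) = b.1.1) : a = b := Subtype.ext (Subtype.ext h)

/-- Hermitian two by two matrices. -/
def IsHerm (B : Matrix (Fin 2) (Fin 2) F) : Prop := Bᵀ = B.map σ

theorem isHerm_of {x y : Fix hF} {b : F} : IsHerm hF !![(x : F), b; σ b, (y : F)] := by
  ext i j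
  fin_cases i <;> fin_cases j <;> simp [σ_eq, σσ]

/-- Upper unipotents. -/
def upJ (B : Matrix (Fin 2) (Fin 2) F) (hB : IsHerm hF B) : SUJ hF :=
  ⟨⟨fromBlocks 1 B 0 1, by rw [det_fromBlocks_zero₂₁, det_one, one_mul]⟩, by
    show (fromBlocks 1 B 0 1)ᵀ * Jm * (fromBlocks 1 B 0 1).map σ = Jm
    rw [Jm, fromBlocks_transpose, fromBlocks_map, fromBlocks_multiply, fromBlocks_multiply]
    unfold IsHerm at hB
    congr 1 <;> simp [hB]⟩

/-- Lower unipotents. -/
def lowJ (B : Matrix (Fin 2) (Fin 2) F) (hB : IsHerm hF B) : SUJ hF :=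
  ⟨⟨fromBlocks 1 0 B 1, by rw [det_fromBlocks_zero₁₂, det_one, one_mul]⟩, by
    show (fromBlocks 1 0 B 1)ᵀ * Jm * (fromBlocks 1 0 B 1).map σ = Jm
    rw [Jm, fromBlocks_transpose, fromBlocks_map, fromBlocks_multiply, fromBlocks_multiply]
    unfold IsHerm at hB
    congr 1 <;> simp [hB]⟩

theorem upJ_val {B : Matrix (Fin 2) (Fin 2) F} (hB : IsHerm hF B) :
    ((upJ hF B hB).1.1 : M4) = fromBlocks 1 B 0 1 := rfl

theorem lowJ_val {B : Matrix (Fin 2) (Fin 2) F} (hB : IsHerm hF B) :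
    ((lowJ hF B hB).1.1 : M4) = fromBlocks 1 0 B 1 := rfl

/-- The inverse conjugate transpose of a matrix of determinant one. -/
def dual (A : Matrix (Fin 2) (Fin 2) F) : Matrix (Fin 2) (Fin 2) F :=
  !![σ (A 1 1), -σ (A 1 0); -σ (A 0 1), σ (A 0 0)]

theorem dual_mul (A B : Matrix (Fin 2) (Fin 2) F) : dual hF (A * B) = dual hF A * dual hF B := by
  ext i j
  fin_cases i <;> fin_cases j <;> simp [dual, Matrix.mul_apply, Fin.sum_univ_two] <;> ring

/-- The Levi copy of `SL₂(q²)`. -/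
def mJ : SL(2, F) →* SUJ hF where
  toFun A := ⟨⟨fromBlocks A.1 0 0 (dual hF A.1), by
      have h := A.2
      rw [det_fromBlocks_zero₂₁, A.2, one_mul]
      rw [det_fin_two] at h
      rw [dual, det_fin_two_of]
      have := congrArg σ h
      simp only [map_sub, map_mul, map_one] at this
      linear_combination this⟩, by
    have h := A.2
    rw [det_fin_two] at h
    show (fromBlocks A.1 0 0 _)ᵀ * Jm * (fromBlocks A.1 0 0 _).map σ = Jm
    rw [Jm, fromBlocks_transpose, fromBlocks_map, fromBlocks_multiply, fromBlocks_multiply]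
    congr 1 <;> ext i j <;> fin_cases i <;> fin_cases j <;>
      simp [dual, Matrix.mul_apply, Fin.sum_univ_two, σσ] <;>
      first
        | linear_combination h
        | (have := congrArg σ h; simp only [map_sub, map_mul, map_one] at this; linear_combination -this)
        | (have := congrArg σ h; simp only [map_sub, map_mul, map_one] at this; linear_combination this)
        | ring⟩
  map_one' := extJ hF (by
    show fromBlocks _ _ _ _ = (1 : M4)
    rw [← fromBlocks_one]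
    congr 1
    ext i j; fin_cases i <;> fin_cases j <;> simp [dual])
  map_mul' A B := extJ hF (by
    show fromBlocks _ _ _ _ = fromBlocks _ _ _ _ * fromBlocks _ _ _ _
    rw [fromBlocks_multiply, mul_val, dual_mul]
    congr 1 <;> simp)

theorem mJ_val (A : SL(2, F)) : ((mJ hF A).1.1 : M4) = fromBlocks A.1 0 0 (dual hF A.1) := rfl

theorem herm_diag (x y : Fix hF) : IsHerm hF !![(x : F), 0; 0, (y : F)] := by
  have := isHerm_of hF (x := x) (y := y) (b := 0)
  rwa [map_zero] at this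

/-- The Weyl element of the long root. -/
def sJ : SUJ hF := upJ hF _ (herm_diag hF 0 1) * lowJ hF _ (herm_diag hF 0 (-1)) * upJ hF _ (herm_diag hF 0 1)

theorem sJ_val : ((sJ hF).1.1 : M4) =
    fromBlocks !![1, 0; 0, 0] !![0, 0; 0, 1] !![0, 0; 0, -1] !![1, 0; 0, 0] := by
  rw [sJ, mulJ, mulJ, upJ_val, lowJ_val, fromBlocks_multiply, fromBlocks_multiply]
  congr 1 <;> ext i j <;> fin_cases i <;> fin_cases j <;> simp [Matrix.mul_apply, Fin.sum_univ_two]

theorem ux_val (t : F) : ((ux (mJ hF) t).1.1 : M4) =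
    fromBlocks !![1, t; 0, 1] 0 0 !![1, 0; -σ t, 1] := by
  rw [ux, mJ_val]
  congr 1
  ext i j; fin_cases i <;> fin_cases j <;> simp [dual, uL_val]

theorem wx_val : ((wx (mJ hF)).1.1 : M4) =
    fromBlocks !![0, 1; -1, 0] 0 0 !![0, 1; -1, 0] := by
  rw [wx, mJ_val]
  congr 1
  ext i j; fin_cases i <;> fin_cases j <;> simp [dual, tL]

theorem dx_val (a : Fˣ) : ((dx (mJ hF) a).1.1 : M4) =
    fromBlocks !![(a : F), 0; 0, (a : F)⁻¹] 0 0 !![(σ (a : F))⁻¹, 0; 0, σ (a : F)] := by
  rw [dx, mJ_val, dL_coe]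
  congr 1
  ext i j; fin_cases i <;> fin_cases j <;> simp [dual]

theorem dy_val (a : Fˣ) : ((dy (mJ hF) (sJ hF) a).1.1 : M4) =
    fromBlocks !![(a : F), 0; 0, σ (a : F)] 0 0 !![(σ (a : F))⁻¹, 0; 0, (a : F)⁻¹] := by
  have hσ := (map_ne_zero σ).2 a.ne_zero
  let T : SUJ hF := ⟨⟨fromBlocks !![(a : F), 0; 0, σ (a : F)] 0 0 !![(σ (a : F))⁻¹, 0; 0, (a : F)⁻¹], by
      rw [det_fromBlocks_zero₂₁, det_fin_two_of, det_fin_two_of]; field_simp; ring⟩, by
    show (fromBlocks _ _ _ _)ᵀ * Jm * (fromBlocks _ _ _ _).map σ = Jm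
    rw [Jm, fromBlocks_transpose, fromBlocks_map, fromBlocks_multiply, fromBlocks_multiply]
    congr 1 <;> ext i j <;> fin_cases i <;> fin_cases j <;>
      simp [Matrix.mul_apply, Fin.sum_univ_two, σσ, hσ]⟩
  have e : dy (mJ hF) (sJ hF) a = T := by
    rw [dy, mul_inv_eq_iff_eq_mul]
    apply extJ
    rw [mulJ, mulJ, dx_val, sJ_val, fromBlocks_multiply, fromBlocks_multiply]
    congr 1 <;> ext i j <;> fin_cases i <;> fin_cases j <;> simp [Matrix.mul_apply, Fin.sum_univ_two]
  rw [e]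

theorem lx_val (a : Fˣ) : ((lx (mJ hF) (sJ hF) a).1.1 : M4) =
    fromBlocks !![1, 0; 0, (a : F) * σ (a : F)] 0 0 !![1, 0; 0, ((a : F) * σ (a : F))⁻¹] := by
  have hσ := (map_ne_zero σ).2 a.ne_zero
  let T : SUJ hF := ⟨⟨fromBlocks !![1, 0; 0, (a : F) * σ (a : F)] 0 0 !![1, 0; 0, ((a : F) * σ (a : F))⁻¹], by
      rw [det_fromBlocks_zero₂₁, det_fin_two_of, det_fin_two_of]; field_simp; ring⟩, by
    show (fromBlocks _ _ _ _)ᵀ * Jm * (fromBlocks _ _ _ _).map σ = Jm
    rw [Jm, fromBlocks_transpose, fromBlocks_map, fromBlocks_multiply, fromBlocks_multiply]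
    congr 1 <;> ext i j <;> fin_cases i <;> fin_cases j <;>
      simp [Matrix.mul_apply, Fin.sum_univ_two, σσ, hσ] <;> field_simp⟩
  have e : lx (mJ hF) (sJ hF) a = T := by
    rw [lx, inv_mul_eq_iff_eq_mul]
    apply extJ
    rw [mulJ, dx_val, dy_val, fromBlocks_multiply]
    congr 1 <;> ext i j <;> fin_cases i <;> fin_cases j <;>
      simp [Matrix.mul_apply, Fin.sum_univ_two] <;> field_simp
  rw [e]

theorem cx_eq (v : F) : cx (mJ hF) (sJ hF) v = upJ hF _ (isHerm_of hF (x := 0) (y := 0) (b := v)) := by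
  rw [cx, mul_inv_eq_iff_eq_mul]
  apply extJ
  rw [mulJ, mulJ, ux_val, sJ_val, upJ_val, fromBlocks_multiply, fromBlocks_multiply]
  congr 1 <;> ext i j <;> fin_cases i <;> fin_cases j <;> simp [Matrix.mul_apply, Fin.sum_univ_two]

theorem cx_val (v : F) : ((cx (mJ hF) (sJ hF) v).1.1 : M4) = fromBlocks 1 !![0, v; σ v, 0] 0 1 := by
  rw [cx_eq, upJ_val]; rfl

theorem cm_val (t v : F) : ((cm (mJ hF) (sJ hF) t v).1.1 : M4) =
    fromBlocks 1 !![t * σ v + σ t * v, 0; 0, 0] 0 1 := by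
  have e : cm (mJ hF) (sJ hF) t v = upJ hF _ (herm_diag hF (tr hF (t * σ v)) 0) := by
    rw [cm, mul_inv_eq_iff_eq_mul, mul_inv_eq_iff_eq_mul]
    apply extJ
    rw [mulJ, mulJ, mulJ, ux_val, cx_val, upJ_val, fromBlocks_multiply, fromBlocks_multiply, fromBlocks_multiply]
    congr 1 <;> ext i j <;> fin_cases i <;> fin_cases j <;>
      simp [Matrix.mul_apply, Fin.sum_univ_two, tr_val, σσ] <;> ring
  rw [e, upJ_val]
  congr 2
  simp [tr_val, σσ]

theorem bx_val (u₀ : F) : ((bx (mJ hF) (sJ hF) u₀).1.1 : M4) =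
    fromBlocks 1 !![0, 0; 0, u₀ + σ u₀] 0 1 := by
  have e : bx (mJ hF) (sJ hF) u₀ = upJ hF _ (herm_diag hF 0 (tr hF u₀)) := by
    rw [bx, mul_assoc, inv_mul_eq_iff_eq_mul]
    apply extJ
    rw [mulJ, mulJ, wx_val, cm_val, upJ_val, fromBlocks_multiply, fromBlocks_multiply]
    congr 1 <;> ext i j <;> fin_cases i <;> fin_cases j <;>
      simp [Matrix.mul_apply, Fin.sum_univ_two, tr_val, σσ] <;> ring
  rw [e, upJ_val]
  congr 2

theorem wsw_val : (((wx (mJ hF)) * sJ hF * (wx (mJ hF))⁻¹).1.1 : M4) =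
    fromBlocks !![0, 0; 0, 1] !![1, 0; 0, 0] !![-1, 0; 0, 0] !![0, 0; 0, 1] := by
  have hT : ((upJ hF _ (herm_diag hF 1 0) * lowJ hF _ (herm_diag hF (-1) 0) *
      upJ hF _ (herm_diag hF 1 0)).1.1 : M4) =
        fromBlocks !![0, 0; 0, 1] !![1, 0; 0, 0] !![-1, 0; 0, 0] !![0, 0; 0, 1] := by
    simp only [mulJ, upJ_val, lowJ_val, fromBlocks_multiply]
    congr 1 <;> ext i j <;> fin_cases i <;> fin_cases j <;> simp [Matrix.mul_apply, Fin.sum_univ_two]
  generalize (upJ hF _ (herm_diag hF 1 0) * lowJ hF _ (herm_diag hF (-1) 0) *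
      upJ hF _ (herm_diag hF 1 0) : SUJ hF) = T at hT
  have h : wx (mJ hF) * sJ hF = T * wx (mJ hF) := by
    apply extJ
    rw [mulJ, mulJ, hT, wx_val, sJ_val, fromBlocks_multiply, fromBlocks_multiply]
    congr 1 <;> ext i j <;> fin_cases i <;> fin_cases j <;> simp [Matrix.mul_apply, Fin.sum_univ_two]
  rw [h, mul_inv_cancel_right, hT]

theorem braid_val : ((sJ hF * ((wx (mJ hF)) * sJ hF * (wx (mJ hF))⁻¹)).1.1 : M4) =
    (((wx (mJ hF)) * sJ hF * (wx (mJ hF))⁻¹) * sJ hF).1.1 := by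
  have e := wsw_val hF
  generalize (wx (mJ hF)) * sJ hF * (wx (mJ hF))⁻¹ = W at e
  rw [mulJ, mulJ, e, sJ_val, fromBlocks_multiply, fromBlocks_multiply]
  congr 1 <;> ext i j <;> fin_cases i <;> fin_cases j <;> simp [Matrix.mul_apply, Fin.sum_univ_two]

theorem model_good {ω : Fˣ} {k : ℕ} {u₀ u₁ : F} (hk : nm hF ((ω ^ k : Fˣ) : F) = -1) (h₀ : tr hF u₀ = 1)
    (h₁ : tr hF u₁ = 0) (three : Bool) :
    ∀ x ∈ su4Rels hF (mJ hF) (sJ hF) ω k u₀ u₁ three, x = 1 := by
  have t₀ : u₀ + σ u₀ = 1 := congrArg Subtype.val h₀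
  have t₀' : σ u₀ + u₀ = 1 := by rw [add_comm]; exact t₀
  have t₁ : σ u₁ + u₁ = 0 := by
    have := congrArg Subtype.val h₁
    rw [tr_val, add_comm] at this
    exact this
  have hω := (map_ne_zero σ).2 ω.ne_zero
  have hz := (map_ne_zero σ).2 (ω ^ (q - 1)).ne_zero
  have hq1 : (σ ((ω ^ (q - 1) : Fˣ) : F)) = ((ω ^ (q - 1) : Fˣ) : F)⁻¹ := by
    rw [← σu_val, ← Units.val_inv_eq_inv_val]
    congr 1
    rw [σu_pow, ← pow_mul, eq_inv_iff_mul_eq_one, ← pow_add, ← Nat.mul_succ, mul_comm,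
      ← Forms.units_card hF, pow_card_eq_one']
  have hq1' : σ (ω : F) ^ (q - 1) = ((ω : F) ^ (q - 1))⁻¹ := by
    have h := hq1
    rwa [Units.val_pow_eq_pow_val, map_pow] at h
  have hr : (((rU hF ω)⁻¹ : Fˣ) : F) = σ (ω : F) / (ω : F) := by
    rw [Units.val_inv_eq_inv_val, rU_val, inv_div]
  have hN : ((ω ^ k : Fˣ) : F) * σ ((ω ^ k : Fˣ) : F) = -1 := by
    have := congrArg Subtype.val hk
    rwa [nm_val, Subfield.coe_neg, Subfield.coe_one] at this
  intro x hx
  have comp : ∀ {a b : SUJ hF}, (a.1.1 : M4) = b.1.1 → a * b⁻¹ = 1 := fun h => mul_inv_eq_one.2 (extJ hF h)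
  have conjc : ∀ {g a b : SUJ hF}, ((g * a).1.1 : M4) = (b * g).1.1 → g * a * g⁻¹ * b⁻¹ = 1 := fun h => by
    rw [mul_inv_eq_one, mul_inv_eq_iff_eq_mul]; exact extJ hF h
  simp only [su4Rels, List.mem_append, List.mem_cons, List.not_mem_nil, or_false] at hx
  rcases hx with (rfl | rfl | rfl | rfl | rfl | rfl | rfl | rfl | rfl | rfl | rfl | rfl | rfl | rfl) | hx
  pick_goal 15
  · cases three <;> simp only [Bool.false_eq_true, if_false, if_true, List.mem_cons, List.not_mem_nil, or_false] at hx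
    · rcases hx with rfl | rfl <;> apply comp <;>
        simp only [mulJ, lx_val, dx_val, cm_val, fromBlocks_multiply] <;>
        congr 1 <;> ext i j <;> fin_cases i <;> fin_cases j <;>
        simp [Matrix.mul_apply, Fin.sum_univ_two, t₀', hq1']
    · rcases hx with rfl | rfl | rfl <;> apply comp <;>
        simp only [mulJ, ux_val, cx_val, cm_val, bx_val, fromBlocks_multiply] <;>
        congr 1 <;> ext i j <;> fin_cases i <;> fin_cases j <;>
        simp [Matrix.mul_apply, Fin.sum_univ_two, t₀, t₀', σσ] <;>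
        first
          | linear_combination (ω : F) * σ (ω : F) * t₀
          | linear_combination -((ω : F) * σ (ω : F) * t₀)
          | ring
  · apply conjc
    simp only [mulJ, dy_val, ux_val, rU_val, fromBlocks_multiply]
    congr 1 <;> ext i j <;> fin_cases i <;> fin_cases j <;>
      simp [Matrix.mul_apply, Fin.sum_univ_two, σσ] <;> field_simp
  · apply comp
    simp only [mulJ, dy_val, dx_val, fromBlocks_multiply]
    congr 1 <;> ext i j <;> fin_cases i <;> fin_cases j <;>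
      simp [Matrix.mul_apply, Fin.sum_univ_two] <;> ring
  · apply conjc
    simp only [mulJ, dy_val, wx_val, dx_val, hr, fromBlocks_multiply]
    congr 1 <;> ext i j <;> fin_cases i <;> fin_cases j <;>
      simp [Matrix.mul_apply, Fin.sum_univ_two, σσ] <;> field_simp
  · apply comp
    simp only [dy_val, dx_val, hq1]
  · apply comp
    simp only [mulJ, sJ_val, lx_val, hN, fromBlocks_multiply]
    congr 1 <;> ext i j <;> fin_cases i <;> fin_cases j <;> simp [Matrix.mul_apply, Fin.sum_univ_two]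
  · apply extJ
    rw [cm_val, oneJ, map_one, one_mul, one_mul, t₁, ← fromBlocks_one]
    congr 1
    ext i j; fin_cases i <;> fin_cases j <;> simp
  · apply comp
    simp only [mulJ, cm_val, ux_val, fromBlocks_multiply]
    congr 1 <;> ext i j <;> fin_cases i <;> fin_cases j <;>
      simp [Matrix.mul_apply, Fin.sum_univ_two, t₀, t₀']
  · apply comp
    simp only [mulJ, cm_val, cx_val, fromBlocks_multiply]
    congr 1 <;> ext i j <;> fin_cases i <;> fin_cases j <;>
      simp [Matrix.mul_apply, Fin.sum_univ_two, t₀, t₀', add_comm]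
  · apply conjc
    simp only [mulJ, cm_val, dx_val, fromBlocks_multiply]
    congr 1 <;> ext i j <;> fin_cases i <;> fin_cases j <;>
      simp [Matrix.mul_apply, Fin.sum_univ_two, σσ] <;> field_simp <;>
      first | ring | linear_combination (0 : F) | linear_combination t₀ - t₀'
  · apply conjc
    simp only [mulJ, wx_val, cx_val, fromBlocks_multiply]
    congr 1 <;> ext i j <;> fin_cases i <;> fin_cases j <;> simp [Matrix.mul_apply, Fin.sum_univ_two]
  · apply comp
    simp only [mulJ, cm_val, bx_val, fromBlocks_multiply]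
    congr 1 <;> ext i j <;> fin_cases i <;> fin_cases j <;>
      simp [Matrix.mul_apply, Fin.sum_univ_two, t₀, t₀', add_comm]
  · apply comp
    simp only [mulJ, cm_val, bx_val, ux_val, cx_val, fromBlocks_multiply]
    congr 1 <;> ext i j <;> fin_cases i <;> fin_cases j <;>
      simp [Matrix.mul_apply, Fin.sum_univ_two, t₀, t₀', add_comm]
  · apply extJ
    simp only [pow_three, mulJ, oneJ, sJ_val, bx_val, t₀, fromBlocks_multiply, ← fromBlocks_one]
    congr 1 <;> ext i j <;> fin_cases i <;> fin_cases j <;> simp [Matrix.mul_apply, Fin.sum_univ_two]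
  · apply comp
    exact braid_val hF

end Cfsg.Agent.SU4Presentation
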