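/-
The hyperbolic model inside `Cfsg.SU 4 F q`, and generation by the Levi copy and the Weyl element.
-/
import Cfsg.Agent.Lib.SU4Presentation.Model
import Cfsg.Agent.Lib.ClassicalSimple.UnitaryMatrix

set_option autoImplicit false
set_option linter.unusedSectionVars false
set_option linter.unusedSimpArgs false
set_option linter.unnecessarySeqFocus false

namespace Cfsg.Agent.SU4Presentation

open Matrix SL2Presentation Cfsg.Agent.BoundedPres
open scoped MatrixGroups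

variable {F : Type*} [Field F] [Fintype F] {q : ℕ} (hF : Fintype.card F = q ^ 2)

local notation "σ" => Forms.qEnd hF
local notation "ι" => Fin 2 ⊕ Fin 2
local notation "M4" => Matrix (Fin 2 ⊕ Fin 2) (Fin 2 ⊕ Fin 2) F

/-- A change of basis from the orthonormal to the hyperbolic frame. -/
theorem exists_frame : ∃ (P : M4) (δ : F), δ ≠ 0 ∧ σ δ = -δ ∧ IsUnit P.det ∧ Pᵀ * P.map σ = δ • Jm := by
  obtain ⟨x, hx⟩ := exists_notMem hF
  set δ := x - σ x with hδ
  have hδ0 : δ ≠ 0 := sub_ne_zero.2 fun h => hx h.symm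
  have hδσ : σ δ = -δ := by rw [hδ, map_sub, σσ, neg_sub]
  obtain ⟨a, ha⟩ := exists_nm hF (-1) (neg_ne_zero.2 one_ne_zero)
  have ha' : (a : F) * σ (a : F) = -1 := by
    have := congrArg Subtype.val ha
    rwa [nm_val, Subfield.coe_neg, Subfield.coe_one] at this
  have hx0 : x ≠ 0 := fun h => hx (h ▸ zero_mem _)
  have hσx : σ x ≠ 0 := (map_ne_zero σ).2 hx0
  set ζ := x / σ x with hζ
  have hN : ζ * σ ζ = 1 := by rw [hζ, map_div₀, σσ]; field_simp
  have hne : 1 - σ ζ ≠ 0 := by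
    intro h
    refine hx ?_
    rw [sub_eq_zero, hζ, map_div₀, σσ, eq_comm, div_eq_one_iff_eq hx0] at h
    exact h
  set t := σ (δ / (1 - σ ζ)) with ht
  have h12 : σ t * (1 - σ ζ) = δ := by rw [ht, σσ, div_mul_cancel₀ _ hne]
  have h21 : t * (1 - ζ) = -δ := by
    have := congrArg σ h12
    rwa [map_mul, map_sub, map_one, σσ, σσ, hδσ] at this
  refine ⟨fromBlocks 1 (t • (1 : Matrix (Fin 2) (Fin 2) F)) ((a : F) • (1 : Matrix (Fin 2) (Fin 2) F))
    ((t * ((a : F) * ζ)) • (1 : Matrix (Fin 2) (Fin 2) F)), δ, hδ0, hδσ, ?_, ?_⟩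
  pick_goal 2
  · rw [Jm, fromBlocks_transpose, fromBlocks_map, fromBlocks_multiply, fromBlocks_smul]
    congr 1 <;> ext i j <;> fin_cases i <;> fin_cases j <;>
      simp [Matrix.mul_apply, Fin.sum_univ_two, σσ] <;>
      first
        | linear_combination ha'
        | linear_combination h12 + (σ t * σ ζ) * ha'
        | linear_combination h21 + (t * ζ) * ha'
        | linear_combination (t * σ t) * hN * ((a : F) * σ (a : F)) + (t * σ t) * ha'
  · have e : ∀ P : M4, Pᵀ * P.map σ = δ • Jm → IsUnit P.det := by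
      intro P hP
      have h2 : (δ • (Jm : M4)) * ((-δ⁻¹) • Jm) = 1 := by
        rw [Jm, smul_mul_smul_comm, fromBlocks_multiply, mul_neg, mul_inv_cancel₀ hδ0, fromBlocks_smul,
          ← fromBlocks_one]
        congr 1 <;> simp
      have h3 := congrArg Matrix.det h2
      rw [← hP, det_mul, det_mul, det_one, det_transpose, mul_assoc] at h3
      exact IsUnit.of_mul_eq_one _ h3
    refine e _ ?_
    rw [Jm, fromBlocks_transpose, fromBlocks_map, fromBlocks_multiply, fromBlocks_smul]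
    congr 1 <;> ext i j <;> fin_cases i <;> fin_cases j <;>
      simp [Matrix.mul_apply, Fin.sum_univ_two, σσ] <;>
      first
        | linear_combination ha'
        | linear_combination h12 + (σ t * σ ζ) * ha'
        | linear_combination h21 + (t * ζ) * ha'
        | linear_combination (t * σ t) * hN * ((a : F) * σ (a : F)) + (t * σ t) * ha'

/-- The coordinates. -/
def idx : Fin 2 ⊕ Fin 2 ≃ Fin 4 := finSumFinEquiv

theorem herm_eq (u v : Fin 4 → F) : Cfsg.hermForm 4 F q u v = u ⬝ᵥ (σ ∘ v) := rfl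

theorem herm_idx (u v : Fin 4 → F) :
    Cfsg.hermForm 4 F q u v = (u ∘ idx) ⬝ᵥ (σ ∘ (v ∘ idx)) := by
  rw [herm_eq hF]
  exact (Equiv.sum_comp idx (fun i => u i * σ (v i))).symm

theorem map_comp (M : M4) (w : ι → F) : σ ∘ (M *ᵥ w) = M.map σ *ᵥ (σ ∘ w) :=
  funext fun i => RingHom.map_mulVec σ M w i

theorem reindex_mulVec (M : M4) (u : Fin 4 → F) :
    (reindex idx idx M *ᵥ u) ∘ idx = M *ᵥ (u ∘ idx) := by
  funext i
  simp only [Function.comp_apply, Matrix.mulVec, dotProduct, reindex_apply, submatrix_apply,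
    Equiv.symm_apply_apply]
  exact (Equiv.sum_comp idx (fun j => M i (idx.symm j) * u j)).symm.trans (by simp)

/-- The standing data of a frame. -/
structure Frame where
  P : M4
  δ : F
  δ0 : δ ≠ 0
  δσ : σ δ = -δ
  unit : IsUnit P.det
  eq : Pᵀ * P.map σ = δ • Jm

variable {hF}

/-- The embedding of the model. -/
noncomputable def Frame.emb (f : Frame hF) : SUJ hF →* Cfsg.SU 4 F q where
  toFun g := ⟨⟨reindex idx idx (f.P * g.1.1 * f.P⁻¹), by
      rw [det_reindex_self, det_conj ((Matrix.isUnit_iff_isUnit_det _).2 f.unit), g.1.2]⟩, by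
    intro u v
    show Cfsg.hermForm 4 F q (reindex idx idx (f.P * g.1.1 * f.P⁻¹) *ᵥ u)
      (reindex idx idx (f.P * g.1.1 * f.P⁻¹) *ᵥ v) = _
    set X := f.P * g.1.1 * f.P⁻¹ with hX
    have hg : g.1.1ᵀ * Jm * g.1.1.map σ = Jm := g.2
    have key : Xᵀ * X.map σ = 1 := by
      have h1 : f.P * f.P⁻¹ = 1 := mul_nonsing_inv _ f.unit
      calc Xᵀ * X.map σ = f.P⁻¹ᵀ * (g.1.1ᵀ * (f.Pᵀ * f.P.map σ) * g.1.1.map σ) * f.P⁻¹.map σ := by
            simp only [hX, transpose_mul, Matrix.map_mul, mul_assoc]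
        _ = f.P⁻¹ᵀ * (f.δ • Jm) * f.P⁻¹.map σ := by rw [f.eq, Matrix.mul_smul, Matrix.smul_mul, hg]
        _ = (f.P * f.P⁻¹)ᵀ * (f.P * f.P⁻¹).map σ := by
            rw [← f.eq]; simp only [transpose_mul, Matrix.map_mul, mul_assoc]
        _ = 1 := by simp [h1]
    rw [herm_idx hF, herm_idx hF, reindex_mulVec, reindex_mulVec, map_comp, dotProduct_mulVec,
      ← Matrix.mulVec_transpose, mulVec_mulVec]
    rw [dotProduct_comm]
    have key2 : (X.map σ)ᵀ * X = 1 := by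
      have := congrArg Matrix.transpose key
      rwa [transpose_mul, transpose_transpose, transpose_one] at this
    rw [key2, one_mulVec, dotProduct_comm]⟩
  map_one' := Subtype.ext (Subtype.ext (by
    show reindex idx idx (f.P * 1 * f.P⁻¹) = 1
    rw [mul_one, mul_nonsing_inv _ f.unit]
    simp))
  map_mul' a b := Subtype.ext (Subtype.ext (by
    show reindex idx idx (f.P * (a.1.1 * b.1.1) * f.P⁻¹) =
      reindex idx idx (f.P * a.1.1 * f.P⁻¹) * reindex idx idx (f.P * b.1.1 * f.P⁻¹)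
    rw [reindex_apply, reindex_apply, reindex_apply, submatrix_mul_equiv]
    congr 1
    simp only [mul_assoc]
    rw [← mul_assoc f.P⁻¹ f.P, nonsing_inv_mul _ f.unit, one_mul]))

variable (hF)

/-- The subgroup of the model generated by the Levi copy and the Weyl element. -/
def genJ : Subgroup (SUJ hF) := Subgroup.closure (insert (sJ hF) (Set.range (mJ hF)))

theorem mem_mJ (A : SL(2, F)) : mJ hF A ∈ genJ hF := Subgroup.subset_closure (Or.inr ⟨A, rfl⟩)

theorem mem_sJ : sJ hF ∈ genJ hF := Subgroup.subset_closure (Or.inl rfl)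

theorem up_one_mem (r : Fix hF) : upJ hF _ (herm_diag hF r 0) ∈ genJ hF := by
  obtain ⟨u₀, u₁, h₀, -, -⟩ := exists_basis hF
  have e : upJ hF _ (herm_diag hF r 0) = cm (mJ hF) (sJ hF) 1 ((r : F) * u₀) := by
    apply extJ
    rw [upJ_val, cm_val]
    have t₀ : u₀ + σ u₀ = 1 := congrArg Subtype.val h₀
    congr 1
    ext i j; fin_cases i <;> fin_cases j <;> simp [σ_eq]
    linear_combination -(r : F) * t₀
  rw [e, cm, cx]
  have hs := mem_sJ hF
  have hm : ∀ t, ux (mJ hF) t ∈ genJ hF := fun t => mem_mJ hF _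
  exact mul_mem (mul_mem (mul_mem (hm _) (mul_mem (mul_mem hs (hm _)) (inv_mem hs))) (inv_mem (hm _)))
    (inv_mem (mul_mem (mul_mem hs (hm _)) (inv_mem hs)))

theorem low_two_mem (r : Fix hF) : lowJ hF _ (herm_diag hF 0 r) ∈ genJ hF := by
  have hw : wx (mJ hF) ∈ genJ hF := mem_mJ hF _
  have hb : upJ hF _ (herm_diag hF 0 (-r)) ∈ genJ hF := by
    have e : upJ hF _ (herm_diag hF 0 (-r)) =
        (wx (mJ hF))⁻¹ * upJ hF _ (herm_diag hF (-r) 0) * wx (mJ hF) := by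
      rw [mul_assoc, eq_inv_mul_iff_mul_eq]
      apply extJ
      rw [mulJ, mulJ, wx_val, upJ_val, upJ_val, fromBlocks_multiply, fromBlocks_multiply]
      congr 1 <;> ext i j <;> fin_cases i <;> fin_cases j <;> simp [Matrix.mul_apply, Fin.sum_univ_two]
    rw [e]
    exact mul_mem (mul_mem (inv_mem hw) (up_one_mem hF _)) hw
  have e : lowJ hF _ (herm_diag hF 0 r) = sJ hF * upJ hF _ (herm_diag hF 0 (-r)) * (sJ hF)⁻¹ := by
    rw [eq_mul_inv_iff_mul_eq]
    apply extJ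
    rw [mulJ, mulJ, sJ_val, upJ_val, lowJ_val, fromBlocks_multiply, fromBlocks_multiply]
    congr 1 <;> ext i j <;> fin_cases i <;> fin_cases j <;> simp [Matrix.mul_apply, Fin.sum_univ_two]
  rw [e]
  exact mul_mem (mul_mem (mem_sJ hF) hb) (inv_mem (mem_sJ hF))

theorem dual_inv {A A' : Matrix (Fin 2) (Fin 2) F} (h : A' * A = 1) : dual hF A' * dual hF A = 1 := by
  rw [← dual_mul, h]
  ext i j; fin_cases i <;> fin_cases j <;> simp [dual]

/-- Lower unipotents with a prescribed first column. -/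
theorem low_mem (x : Fix hF) (b : F) :
    lowJ hF _ (isHerm_of hF (x := x) (y := 0) (b := σ b)) ∈ genJ hF := by
  have conj : ∀ {C C' : Matrix (Fin 2) (Fin 2) F} (hC : IsHerm hF C) (hC' : IsHerm hF C') (A : SL(2, F)),
      dual hF A.1 * C = C' * A.1 → lowJ hF C hC ∈ genJ hF → lowJ hF C' hC' ∈ genJ hF := by
    intro C C' hC hC' A hCC h
    have e : lowJ hF C' hC' = mJ hF A * lowJ hF C hC * (mJ hF A)⁻¹ := by
      rw [eq_mul_inv_iff_mul_eq]
      apply extJ
      rw [mulJ, mulJ, mJ_val, lowJ_val, lowJ_val, fromBlocks_multiply, fromBlocks_multiply]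
      congr 1 <;> simp [hCC]
    rw [e]
    exact mul_mem (mul_mem (mem_mJ hF A) h) (inv_mem (mem_mJ hF A))
  have h1 : ∀ r, lowJ hF _ (herm_diag hF r 0) ∈ genJ hF := fun r =>
    conj _ _ tL (by ext i j; fin_cases i <;> fin_cases j <;> simp [dual, tL, Matrix.mul_apply, Fin.sum_univ_two])
      (low_two_mem hF r)
  let A : SL(2, F) := ⟨!![1, 0; -b, 1], by simp [det_fin_two]⟩
  have h2 : lowJ hF _ (isHerm_of hF (x := nm hF b) (y := 1) (b := σ b)) ∈ genJ hF :=
    conj _ _ A (by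
      ext i j
      fin_cases i <;> fin_cases j <;> simp [dual, A, Matrix.mul_apply, Fin.sum_univ_two, nm_val, σσ] <;> ring)
      (low_two_mem hF 1)
  have e : lowJ hF _ (isHerm_of hF (x := x) (y := 0) (b := σ b)) =
      lowJ hF _ (isHerm_of hF (x := nm hF b) (y := 1) (b := σ b)) * lowJ hF _ (herm_diag hF 0 (-1)) *
        lowJ hF _ (herm_diag hF (x - nm hF b) 0) := by
    apply extJ
    rw [mulJ, mulJ, lowJ_val, lowJ_val, lowJ_val, lowJ_val, fromBlocks_multiply, fromBlocks_multiply]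
    congr 1 <;> ext i j <;> fin_cases i <;> fin_cases j <;>
      simp [Matrix.mul_apply, Fin.sum_univ_two, nm_val, σσ]
  rw [e]
  exact mul_mem (mul_mem h2 (low_two_mem hF _)) (h1 _)

theorem smul_vec (g : SUJ hF) (v w : ι → F) :
    (g.1.1 *ᵥ v) ⬝ᵥ (Jm *ᵥ (σ ∘ (g.1.1 *ᵥ w))) = v ⬝ᵥ (Jm *ᵥ (σ ∘ w)) := by
  have hg : g.1.1ᵀ * Jm * g.1.1.map σ = Jm := g.2
  rw [map_comp, dotProduct_comm, dotProduct_mulVec, ← mulVec_transpose, dotProduct_comm, mulVec_mulVec,
    mulVec_mulVec, hg]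

/-- Transitivity on isotropic lines. -/
theorem exists_to_base {v : ι → F} (hv : v ≠ 0) (hiso : v ⬝ᵥ (Jm *ᵥ (σ ∘ v)) = 0) :
    ∃ h ∈ genJ hF, ∃ c : F, h.1.1 *ᵥ v = Pi.single (Sum.inl 0) c := by
  -- the first two coordinates can be made non-zero
  obtain ⟨h1, hh1, hx⟩ : ∃ h ∈ genJ hF, (h.1.1 *ᵥ v) (Sum.inl 0) ≠ 0 ∨ (h.1.1 *ᵥ v) (Sum.inl 1) ≠ 0 := by
    by_cases hx : v (Sum.inl 0) ≠ 0 ∨ v (Sum.inl 1) ≠ 0
    · exact ⟨1, one_mem _, by simpa [oneJ] using hx⟩
    push Not at hx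
    by_cases hy : v (Sum.inr 1) ≠ 0
    · refine ⟨sJ hF, mem_sJ hF, Or.inr ?_⟩
      rw [sJ_val]
      simpa [Matrix.mulVec, dotProduct, Fintype.sum_sum_type, Fin.sum_univ_two] using hy
    push Not at hy
    have hy0 : v (Sum.inr 0) ≠ 0 := fun h => hv (funext fun i => by
      rcases i with i | i <;> fin_cases i <;> simp [hx.1, hx.2, hy, h])
    refine ⟨sJ hF * wx (mJ hF), mul_mem (mem_sJ hF) (mem_mJ hF _), Or.inr ?_⟩
    rw [mulJ, sJ_val, wx_val]
    simpa [fromBlocks_multiply, Matrix.mulVec, dotProduct, Fintype.sum_sum_type, Fin.sum_univ_two,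
      Matrix.mul_apply] using hy0
  set w := h1.1.1 *ᵥ v with hw
  -- move the first block to a basis vector
  obtain ⟨A, hA0, hA1⟩ : ∃ A : SL(2, F), A.1 0 0 * w (Sum.inl 0) + A.1 0 1 * w (Sum.inl 1) = 1 ∧
      A.1 1 0 * w (Sum.inl 0) + A.1 1 1 * w (Sum.inl 1) = 0 := by
    by_cases h0 : w (Sum.inl 0) ≠ 0
    · refine ⟨⟨!![(w (Sum.inl 0))⁻¹, 0; -w (Sum.inl 1), w (Sum.inl 0)], by rw [det_fin_two_of]; field_simp; ring⟩, ?_, ?_⟩ <;>
        simp [h0]; ring
    · push Not at h0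
      have h1' : w (Sum.inl 1) ≠ 0 := hx.resolve_left (fun h => h h0)
      refine ⟨⟨!![0, (w (Sum.inl 1))⁻¹; -w (Sum.inl 1), 0], by rw [det_fin_two_of]; field_simp; ring⟩, ?_, ?_⟩ <;>
        simp [h0, h1']
  set z := (mJ hF A).1.1 *ᵥ w with hz
  have z0 : z (Sum.inl 0) = 1 := by
    rw [hz, mJ_val]; simpa [Matrix.mulVec, dotProduct, Fintype.sum_sum_type, Fin.sum_univ_two] using hA0
  have z1 : z (Sum.inl 1) = 0 := by
    rw [hz, mJ_val]; simpa [Matrix.mulVec, dotProduct, Fintype.sum_sum_type, Fin.sum_univ_two] using hA1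
  have hzi : z ⬝ᵥ (Jm *ᵥ (σ ∘ z)) = 0 := by rw [hz, smul_vec, hw, smul_vec, hiso]
  have hy : σ (z (Sum.inr 0)) = z (Sum.inr 0) := by
    simp [dotProduct, Matrix.mulVec, Jm, Fintype.sum_sum_type, Fin.sum_univ_two, Matrix.one_apply, z0, z1] at hzi
    linear_combination hzi
  set L := lowJ hF _ (isHerm_of hF (x := -⟨_, hy⟩) (y := 0) (b := σ (-z (Sum.inr 1))))
  refine ⟨L * (mJ hF A * h1), mul_mem (low_mem hF _ _) (mul_mem (mem_mJ hF A) hh1), 1, ?_⟩
  rw [mulJ, mulJ, ← Matrix.mulVec_mulVec, ← Matrix.mulVec_mulVec, ← hw, ← hz, lowJ_val]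
  funext i
  rcases i with i | i <;> fin_cases i <;>
    simp [Matrix.mulVec, dotProduct, Fintype.sum_sum_type, Fin.sum_univ_two, Matrix.one_apply, z0, z1, σσ]

variable {hF}

theorem Frame.gen (f : Frame hF) : (genJ hF).map f.emb = ⊤ := by
  rw [← top_le_iff, ← ClassicalSimple.closure_unitaryTransvectionSet hF (n := 4) (by norm_num) (by omega),
    Subgroup.closure_le]
  rintro A ⟨v, c, hv0, hA⟩
  by_cases hvc : v = 0 ∨ c = 0
  · have : A = 1 := Subtype.ext (Subtype.ext (by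
      show (A.1.1 : Matrix (Fin 4) (Fin 4) F) = 1
      rw [hA, Cfsg.unitaryTransvection]
      rcases hvc with h | h <;> simp [h]))
    rw [this]; exact one_mem _
  push Not at hvc
  have hc : c + σ c = 0 := by
    have h := (ClassicalSimple.unitaryTransvection_isometry_iff hF hvc.1 hv0 c).1
      fun x y => by rw [← hA]; exact (ClassicalSimple.mem_SU_iff hF A.1).1 A.2 x y
    exact h
  set v' := f.P⁻¹ *ᵥ (v ∘ idx) with hv'
  have hPv : f.P *ᵥ v' = v ∘ idx := by rw [hv', mulVec_mulVec, mul_nonsing_inv _ f.unit, one_mulVec]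
  have hkey : (σ ∘ (v ∘ idx)) ᵥ* f.P = f.δ • (Jm *ᵥ (σ ∘ v')) := by
    rw [← hPv, map_comp, ← mulVec_transpose, mulVec_mulVec, f.eq, smul_mulVec]
  have hne : v' ≠ 0 := fun h => hvc.1 (by
    rw [h, mulVec_zero] at hPv
    funext i
    simpa using (congrFun hPv (idx.symm i)).symm)
  have hiso : v' ⬝ᵥ (Jm *ᵥ (σ ∘ v')) = 0 := by
    have e : f.δ * (v' ⬝ᵥ (Jm *ᵥ (σ ∘ v'))) = 0 := by
      rw [← smul_eq_mul, ← dotProduct_smul, ← hkey, dotProduct_comm, ← dotProduct_mulVec, hPv,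
        dotProduct_comm, ← herm_idx hF]
      exact hv0
    exact (mul_eq_zero.1 e).resolve_left f.δ0
  obtain ⟨h, hh, lam, hl⟩ := exists_to_base hF hne hiso
  have hr : -(c * f.δ * (lam * σ lam)) ∈ Fix hF := by
    rw [mem_Fix]
    simp only [map_neg, map_mul, σσ, f.δσ, show σ c = -c by linear_combination hc]
    ring
  refine ⟨h⁻¹ * upJ hF _ (herm_diag hF ⟨_, hr⟩ 0) * h,
    mul_mem (mul_mem (inv_mem hh) (up_one_mem hF _)) hh, ?_⟩
  apply Subtype.ext
  apply Subtype.ext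
  show reindex idx idx (f.P * ((h⁻¹).1.1 * fromBlocks 1 !![-(c * f.δ * (lam * σ lam)), 0; 0, 0] 0 1 * h.1.1) *
    f.P⁻¹) = (A.1.1 : Matrix (Fin 4) (Fin 4) F)
  have hJh : Jm *ᵥ (σ ∘ v') = (Jm *ᵥ (σ ∘ (h.1.1 *ᵥ v'))) ᵥ* h.1.1 := by
    have hg : h.1.1ᵀ * Jm * h.1.1.map σ = Jm := h.2
    conv_rhs => rw [map_comp, ← mulVec_transpose, mulVec_mulVec, mulVec_mulVec, hg]
  have hinv : (h⁻¹).1.1 *ᵥ (Pi.single (Sum.inl 0) lam) = v' := by
    rw [← hl, mulVec_mulVec, ← mulJ, inv_mul_cancel, oneJ, one_mulVec]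
  have hup : (fromBlocks 1 !![-(c * f.δ * (lam * σ lam)), 0; 0, 0] 0 1 : M4) =
      1 + (c * f.δ) • vecMulVec (Pi.single (Sum.inl 0) lam) (Jm *ᵥ (σ ∘ (Pi.single (Sum.inl 0) lam : ι → F))) := by
    ext i j
    rcases i with i | i <;> rcases j with j | j <;> fin_cases i <;> fin_cases j <;>
      simp [Jm, vecMulVec_apply, Matrix.mulVec, dotProduct, Fintype.sum_sum_type, Fin.sum_univ_two, Matrix.one_apply] <;>
      ring
  have h1 : (h⁻¹).1.1 * h.1.1 = 1 := by rw [← mulJ, inv_mul_cancel, oneJ]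
  have mid : (h⁻¹).1.1 * fromBlocks 1 !![-(c * f.δ * (lam * σ lam)), 0; 0, 0] 0 1 * h.1.1 =
      1 + (c * f.δ) • vecMulVec v' (Jm *ᵥ (σ ∘ v')) := by
    rw [hup, mul_add, add_mul, mul_one, h1, Matrix.mul_smul, Matrix.smul_mul, mul_vecMulVec, vecMulVec_mul,
      hinv, hJh, hl]
  have fin : f.P * ((1 : M4) + (c * f.δ) • vecMulVec v' (Jm *ᵥ (σ ∘ v'))) * f.P⁻¹ =
      1 + c • vecMulVec (v ∘ idx) (σ ∘ (v ∘ idx)) := by
    rw [mul_smul, ← vecMulVec_smul, ← hkey, mul_add, add_mul, mul_one, mul_nonsing_inv _ f.unit,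
      Matrix.mul_smul, Matrix.smul_mul, mul_vecMulVec, vecMulVec_mul, hPv, vecMul_vecMul,
      mul_nonsing_inv _ f.unit, vecMul_one]
  rw [mid, fin, hA, Cfsg.unitaryTransvection]
  ext i j
  simp [Matrix.one_apply, vecMulVec_apply, Forms.qEnd_apply]

end Cfsg.Agent.SU4Presentation
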