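/-
`SU₄(q)` on four generators with at most twenty-six relators.
-/
import Cfsg.Agent.Lib.SU4Presentation.Bound
import Cfsg.Agent.Lib.SU4Presentation.Transfer
import Cfsg.Agent.Lib.BoundedPres.Short.Tuple
import Cfsg.Agent.S2286

set_option autoImplicit false
set_option linter.unusedSectionVars false

namespace Cfsg.Agent.SU4Presentation

open Matrix SL2Presentation Cfsg.Agent.BoundedPres
open scoped MatrixGroups

variable {F : Type*} [Field F] [Fintype F] {q : ℕ} (hF : Fintype.card F = q ^ 2)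

theorem frame_nonempty : Nonempty (Frame hF) := by
  obtain ⟨P, δ, h1, h2, h3, h4⟩ := exists_frame hF
  exact ⟨⟨P, δ, h1, h2, h3, h4⟩⟩

include hF in
theorem card_SU_four :
    Nat.card (Cfsg.SU 4 F q) = q ^ 6 * (q ^ 2 - 1) * (q - 1) * ((1 + q + q ^ 2 + q ^ 3) * (1 + q ^ 3)) := by
  have h := Forms.card_SU_mul hF (n := 4) (by norm_num)
  rw [Forms.card_GU hF] at h
  simp only [Finset.prod_range_succ, Finset.prod_range_zero, one_mul] at h
  rw [if_pos (by decide), if_neg (by decide), if_pos (by decide), if_neg (by decide)] at h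
  obtain ⟨r, rfl⟩ : ∃ r, q = r + 1 := ⟨q - 1, by have := Forms.one_lt_q hF; omega⟩
  have h2 : (r + 1) ^ 2 - 1 = r * (r + 2) := Nat.sub_eq_of_eq_add (by ring)
  have h4 : (r + 1) ^ (3 + 1) - 1 = r * (r + 2) * ((r + 1) ^ 2 + 1) := Nat.sub_eq_of_eq_add (by ring)
  rw [show (1 + 1 : ℕ) = 2 from rfl, h2, h4] at h
  norm_num only at h
  rw [h2, Nat.add_sub_cancel]
  refine Nat.eq_of_mul_eq_mul_left (show 0 < r + 1 + 1 by omega) ?_
  rw [h]
  ring

include hF in
/-- `SU₄(q)` on four generators. -/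
theorem su4_tup (r₀ : ℕ) (hR : ∃ rels : Finset (FreeGroup (Fin 3)), rels.card ≤ r₀ ∧
    Nonempty (PresentedGroup (↑rels : Set (FreeGroup (Fin 3))) ≃* SL(2, F))) :
    ∃ g : Fin 4 → Cfsg.SU 4 F q, Short.Tup g (r₀ + if q = 3 then 17 else 16) := by
  classical
  obtain ⟨R₀, hcard, ⟨e₀⟩⟩ := hR
  obtain ⟨ω, hω⟩ := IsCyclic.exists_generator (α := Fˣ)
  obtain ⟨b, hb⟩ := exists_nm hF (-1) (neg_ne_zero.2 one_ne_zero)
  obtain ⟨k, hk'⟩ := mem_powers_iff_mem_zpowers.2 (hω b)
  obtain ⟨u₀, u₁, h₀, h₁, h₁'⟩ := exists_basis hF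
  obtain ⟨fr⟩ := frame_nonempty hF
  have hk : nm hF ((ω ^ k : Fˣ) : F) = -1 := by
    rw [show ω ^ k = b from hk']; exact hb
  choose w hw using fun A => PresentedGroup.mk_surjective (↑R₀ : Set (FreeGroup (Fin 3))) (e₀.symm A)
  let j : FreeGroup (Fin 3) →* FreeGroup (Fin 4) := FreeGroup.map (Fin.castAdd 1)
  let S : FreeGroup (Fin 4) := FreeGroup.of (Fin.natAdd 3 (0 : Fin 1))
  set R : List (FreeGroup (Fin 4)) :=
    R₀.toList.map j ++ su4Rels hF (j ∘ w) S ω k u₀ u₁ (decide (q = 3)) with hR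
  let g : Fin 4 → Cfsg.SU 4 F q :=
    Fin.append (fun i : Fin 3 => fr.emb (mJ hF (e₀ (PresentedGroup.of i)))) (fun _ : Fin 1 => fr.emb (sJ hF))
  have hgj : (FreeGroup.lift g).comp j = ((fr.emb.comp (mJ hF)).comp e₀.toMonoidHom).comp (PresentedGroup.mk _) :=
    FreeGroup.ext_hom _ _ fun i => by
      show FreeGroup.lift g (FreeGroup.map (Fin.castAdd 1) (FreeGroup.of i)) = _
      rw [FreeGroup.map.of, FreeGroup.lift_apply_of]
      exact Fin.append_left _ _ i
  have hgS : FreeGroup.lift g S = fr.emb (sJ hF) := by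
    rw [FreeGroup.lift_apply_of]; exact Fin.append_right _ _ (0 : Fin 1)
  have hgw : FreeGroup.lift g ∘ (j ∘ w) = fr.emb ∘ mJ hF := funext fun A => by
    show ((FreeGroup.lift g).comp j) (w A) = _
    rw [hgj]; simp [hw]
  refine ⟨g, Short.Tup.of_card (R := R) ?_ ?_ ?_ ?_⟩
  · rw [hR, List.length_append, List.length_map, Finset.length_toList, length_su4Rels]
    by_cases h3 : q = 3 <;> simp [h3] <;> omega
  · rw [eq_top_iff, ← fr.gen, genJ, MonoidHom.map_closure, Subgroup.closure_le]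
    rintro _ ⟨x, rfl | ⟨A, rfl⟩, rfl⟩
    · exact Subgroup.subset_closure ⟨Fin.natAdd 3 (0 : Fin 1), Fin.append_right _ _ (0 : Fin 1)⟩
    · rw [← FreeGroup.range_lift_eq_closure]
      exact ⟨j (w A), congrFun hgw A⟩
  · intro x hx
    rw [hR, List.mem_append] at hx
    rcases hx with hx | hx
    · obtain ⟨r, hr, rfl⟩ := List.mem_map.1 hx
      rw [← MonoidHom.comp_apply, hgj, MonoidHom.comp_apply,
        PresentedGroup.one_of_mem (Finset.mem_coe.2 (Finset.mem_toList.1 hr)), map_one]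
    · have := List.mem_map_of_mem (f := FreeGroup.lift g) hx
      rw [map_su4Rels, hgw, hgS, ← map_su4Rels hF (mJ hF) (sJ hF) fr.emb] at this
      obtain ⟨y, hy, e⟩ := List.mem_map.1 this
      rw [← e, model_good hF hk h₀ h₁ _ y hy, map_one]
  · intro Q _ g' hgen' hrel
    let f := FreeGroup.lift g'
    have h : ∀ r ∈ (↑R₀ : Set (FreeGroup (Fin 3))), FreeGroup.lift (fun i => f (j (FreeGroup.of i))) r = 1 := by
      intro r hr
      have : FreeGroup.lift (fun i => f (j (FreeGroup.of i))) = f.comp j := FreeGroup.ext_hom _ _ fun i => by simp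
      rw [this]
      exact hrel _ (List.mem_append_left _ (List.mem_map.2 ⟨r, Finset.mem_toList.2 hr, rfl⟩))
    let m : SL(2, F) →* Q := (PresentedGroup.toGroup h).comp e₀.symm.toMonoidHom
    have hm : ∀ v, m (e₀ (PresentedGroup.mk _ v)) = f (j v) := fun v => by
      show PresentedGroup.toGroup h (e₀.symm (e₀ _)) = _
      rw [e₀.symm_apply_apply]
      have : (PresentedGroup.toGroup h).comp (PresentedGroup.mk _) = f.comp j :=
        FreeGroup.ext_hom _ _ fun i => by
          show PresentedGroup.toGroup h (PresentedGroup.of i) = _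
          rw [PresentedGroup.toGroup.of]; rfl
      exact DFunLike.congr_fun this v
    have hmw : f ∘ (j ∘ w) = m := funext fun A => by
      show f (j (w A)) = _
      rw [← hm, hw, e₀.apply_symm_apply]
    let H : Hyp hF m (f S) :=
      { ω := ω, k := k, u₀ := u₀, u₁ := u₁, hω := hω, hk := hk, h₀ := h₀, h₁ := h₁, h₁' := h₁'
        hG := fun x hx => by
          rw [← hmw, ← map_su4Rels] at hx
          obtain ⟨y, hy, rfl⟩ := List.mem_map.1 hx
          exact hrel y (List.mem_append_right _ hy) }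
    rw [card_SU_four hF]
    refine H.bound fun K hmK hsK => ?_
    rw [eq_top_iff, ← hgen', Subgroup.closure_le]
    rintro _ ⟨i, rfl⟩
    revert i
    refine Fin.addCases (m := 3) (n := 1) (fun i => ?_) (fun i => ?_)
    · exact hmK ⟨e₀ (PresentedGroup.mk _ (FreeGroup.of i)), (hm _).trans (by simp [f, j])⟩
    · obtain rfl : i = 0 := Subsingleton.elim _ _
      simpa [f, S] using hsK

include hF in
/-- `SU₄(q)` on four generators with twenty-six relators, twenty-one if `q = 2`. -/
theorem su4_presentation : ∃ g : Fin 4 → Cfsg.SU 4 F q, Short.Tup g (if q = 2 then 21 else 26) := by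
  by_cases h2 : q = 2
  · subst h2
    have h4 := FiniteField.even_card_of_char_two (F := F)
    have : CharP F 2 := by
      refine ringChar.of_eq ?_
      by_contra h
      have := FiniteField.odd_card_of_char_ne_two h
      rw [hF] at this
      norm_num at this
    obtain ⟨g, hg⟩ := su4_tup hF 5 presentation_char_two
    exact ⟨g, by simpa using hg⟩
  · obtain ⟨g, hg⟩ := su4_tup hF 9 (Cfsg.Agent.S2286.result (F := F)).1
    refine ⟨g, ?_⟩
    rw [if_neg h2]
    obtain ⟨R, hR, rest⟩ := hg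
    exact ⟨R, hR.trans (by split <;> omega), rest⟩

end Cfsg.Agent.SU4Presentation
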